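import Cfsg.Agent.Nodes.Coroot
import Cfsg.Agent.DL.Ex.Fin_m3
import Cfsg.Agent.DL.Dat.Tor
import Cfsg.Agent.DL.CF.Uni_m3
import Cfsg.Agent.DL.St.Main_m3
import Cfsg.Agent.DL.Tw.Suz
import Cfsg.Agent.TAB.B.Fin.Cols_m3
import Cfsg.Agent.H424.DegTools
import Cfsg.Agent.FastGrp
import Cfsg.Agent.Prune
set_option linter.all false

section
prune_inst 0x7ffdbdfb7fa9afffffff7e37ffd9fff811a08fffa4dfd943ffe063bf2b9f330089c5f38d0de092fe1f96c03410287843fbffffffea6ffc7ffbfdfff41ffbee5fe5f6b508119c8c340f340ff783f05f086f2fdffeefffffffffffffffffffffbeffbfffffffff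

-- part: DL/Rows/Cert
section
prune_inst 0x242048056500000000048000200058a5350004b00208800008c405420009c26080c2200002000404020c00010801000000000000000000400000000000000120902812061108a104a60081800208610102001100000000000000000000000004000000000
set_option linter.all false
open scoped Cfsg.Agent.FastGrp

/-!
# Certificates for regular eigenvectors of twisted Weyl group elements (helper7)
-/

set_option autoImplicit false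
set_option linter.unusedSectionVars false

namespace Cfsg.Agent.DL.Rows.Cert

open CoxeterSystem Cfsg.Agent.ChevalleyStructure.CoxeterGeom Cfsg.Agent.Tits.Roots Cfsg.Agent.Nodes.Coroot

/-! ### strict evaluation -/

def forceN {α : Type} (n : ℕ) (k : ℕ → α) : α := Nat.casesOn n (k 0) fun m => k m.succ

theorem forceN_eq {α : Type} (n : ℕ) (k : ℕ → α) : forceN n k = k n := by cases n <;> rfl

def forceI {α : Type} (a : ℤ) (k : ℤ → α) : α :=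
  Int.casesOn a (fun n => forceN n fun n => k (Int.ofNat n)) fun n => forceN n fun n => k (Int.negSucc n)

theorem forceI_eq {α : Type} (a : ℤ) (k : ℤ → α) : forceI a k = k a := by
  cases a with
  | ofNat n => exact forceN_eq n fun n => k (Int.ofNat n)
  | negSucc n => exact forceN_eq n fun n => k (Int.negSucc n)

def forceL {α : Type} (l : List ℤ) : (List ℤ → α) → α :=
  List.rec (fun k => k []) (fun a _ ih k => forceI a fun a => ih fun l => k (a :: l)) l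

theorem forceL_eq {α : Type} (l : List ℤ) (k : List ℤ → α) : forceL l k = k l := by
  induction l generalizing k with
  | nil => rfl
  | cons a l ih =>
    change forceI a (fun a => forceL l fun l => k (a :: l)) = _
    rw [forceI_eq, ih]

/-! ### polynomials -/

def padd (P : List ℤ) : List ℤ → List ℤ :=
  List.rec (fun Q => Q) (fun a P ih Q => List.casesOn Q (a :: P) fun b Q => (a + b) :: ih Q) P

def psmul (c : ℤ) (P : List ℤ) : List ℤ := P.map (c * ·)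

def pmul (P Q : List ℤ) : List ℤ := List.rec [] (fun a _ ih => padd (psmul a Q) (0 :: ih)) P

def peval {R : Type} [CommRing R] (P : List ℤ) (z : R) : R := P.foldr (fun a acc => (a : R) + z * acc) 0

def red1 (gt Q : List ℤ) : List ℤ := List.casesOn Q [] fun a Q => forceL (padd Q (psmul (-a) gt)) id

def redn (n : ℕ) (gt : List ℤ) : List ℤ → List ℤ := Nat.rec (fun Q => Q) (fun _ ih Q => ih (red1 gt Q)) n

def lead (Q : List ℤ) : ℤ := List.rec 0 (fun a Q ih => if a = 0 then ih else if Q.all (· == 0) then a else 0) Q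

def pshift (a : ℤ) (P : List ℤ) : List ℤ := List.rec [] (fun c _ ih => forceL (padd [c] (pmul [a, 1] ih)) id) P

section

variable {R : Type} [CommRing R] (z : R)

theorem peval_nil : peval [] z = 0 := rfl

theorem peval_cons (a : ℤ) (P : List ℤ) : peval (a :: P) z = a + z * peval P z := rfl

theorem peval_padd (P Q : List ℤ) : peval (padd P Q) z = peval P z + peval Q z := by
  induction P generalizing Q with
  | nil => exact (zero_add _).symm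
  | cons a P ih =>
    cases Q with
    | nil => exact (add_zero _).symm
    | cons b Q =>
      change peval ((a + b) :: padd P Q) z = _
      rw [peval_cons, peval_cons, peval_cons, ih, Int.cast_add]
      ring

theorem peval_psmul (c : ℤ) (P : List ℤ) : peval (psmul c P) z = c * peval P z := by
  induction P with
  | nil => exact (mul_zero _).symm
  | cons a P ih =>
    change peval ((c * a) :: psmul c P) z = _
    rw [peval_cons, peval_cons, ih, Int.cast_mul]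
    ring

theorem peval_pmul (P Q : List ℤ) : peval (pmul P Q) z = peval P z * peval Q z := by
  induction P with
  | nil => exact (zero_mul _).symm
  | cons a P ih =>
    change peval (padd (psmul a Q) (0 :: pmul P Q)) z = _
    rw [peval_padd, peval_psmul, peval_cons, peval_cons, ih, Int.cast_zero]
    ring

theorem peval_pshift (a : ℤ) (P : List ℤ) : peval (pshift a P) z = peval P (a + z) := by
  induction P with
  | nil => rfl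
  | cons c P ih =>
    change peval (forceL (padd [c] (pmul [a, 1] (pshift a P))) id) z = _
    rw [forceL_eq, id, peval_padd, peval_pmul, ih]
    simp [peval_cons, peval_nil]

theorem peval_cast (P : List ℤ) (q : ℤ) : ((peval P q : ℤ) : R) = peval P (q : R) := by
  induction P with
  | nil => exact Int.cast_zero
  | cons a P ih => rw [peval_cons, peval_cons, Int.cast_add, Int.cast_mul, ih, Int.cast_id]

theorem peval_zeros {Q : List ℤ} (h : Q.all (· == 0) = true) : peval Q z = 0 := by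
  induction Q with
  | nil => rfl
  | cons a Q ih =>
    rw [List.all_cons, Bool.and_eq_true, beq_iff_eq] at h
    rw [peval_cons, ih h.2, h.1]
    simp

end

section

variable {R : Type} [Field R] {z : R} {gt : List ℤ}

theorem ne_zero_of_root (hg : peval (1 :: gt) z = 0) : z ≠ 0 := by
  rintro rfl
  simp [peval_cons] at hg

theorem peval_red1 (hg : peval (1 :: gt) z = 0) {Q : List ℤ} (hQ : peval Q z = 0) : peval (red1 gt Q) z = 0 := by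
  cases Q with
  | nil => rfl
  | cons a Q =>
    change peval (forceL (padd Q (psmul (-a) gt)) id) z = 0
    rw [forceL_eq, id, peval_padd, peval_psmul]
    rw [peval_cons] at hg hQ
    apply mul_left_cancel₀ (ne_zero_of_root hg)
    push_cast at hg ⊢
    linear_combination hQ - a * hg

theorem peval_redn (hg : peval (1 :: gt) z = 0) (n : ℕ) {Q : List ℤ} (hQ : peval Q z = 0) :
    peval (redn n gt Q) z = 0 := by
  induction n generalizing Q with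
  | zero => exact hQ
  | succ n ih => exact ih (peval_red1 hg hQ)

theorem lead_eq_zero (hz : z ≠ 0) {Q : List ℤ} (hQ : peval Q z = 0) : ((lead Q : ℤ) : R) = 0 := by
  induction Q with
  | nil => exact Int.cast_zero
  | cons a Q ih =>
    change (((if a = 0 then lead Q else if Q.all (· == 0) then a else 0 : ℤ)) : R) = 0
    rw [peval_cons] at hQ
    split_ifs with h1 h2
    · rw [h1, Int.cast_zero, zero_add] at hQ
      exact ih ((mul_eq_zero.1 hQ).resolve_left hz)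
    · rwa [peval_zeros z h2, mul_zero, add_zero] at hQ
    · exact Int.cast_zero

end

theorem head_le_peval {P : List ℤ} (h : P.all (0 ≤ ·) = true) {t : ℤ} (ht : 0 ≤ t) :
    P.headD 0 ≤ peval P t ∧ 0 ≤ peval P t := by
  induction P with
  | nil => exact ⟨le_rfl, le_rfl⟩
  | cons a P ih =>
    rw [List.all_cons, Bool.and_eq_true, decide_eq_true_eq] at h
    have := mul_nonneg ht (ih h.2).2
    rw [peval_cons, List.headD_cons, Int.cast_id]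
    constructor <;> linarith [h.1]

theorem peval_emod (P : List ℤ) (q n : ℤ) : peval P (q % n) % n = peval P q % n := by
  induction P with
  | nil => rfl
  | cons a P ih =>
    rw [peval_cons, peval_cons]
    exact (Int.ModEq.refl _).add ((Int.mod_modEq q n).mul ih)

/-- the residue check -/
def resOK (P : List ℤ) (n : ℕ) : Bool := (List.range n).all fun z => peval P (z : ℤ) % (n : ℤ) != 0

theorem not_dvd_of_resOK {P : List ℤ} {n : ℕ} (hn : 0 < n) (h : resOK P n = true) (q : ℤ) :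
    ¬ (n : ℤ) ∣ peval P q := fun hd => by
  have h0 : (0 : ℤ) < n := by exact_mod_cast hn
  have h1 := List.all_eq_true.1 h (q % n).toNat (List.mem_range.2 (by
    have := Int.emod_lt_of_pos q h0
    have := Int.emod_nonneg q h0.ne'
    omega))
  rw [Int.toNat_of_nonneg (Int.emod_nonneg q h0.ne'), peval_emod, Int.emod_eq_zero_of_dvd hd] at h1
  simp at h1

/-- the check that `P q` has a prime divisor outside `B` for `q ≥ q₀` -/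
def primeOK (P : List ℤ) (B : List ℕ) (c : ℕ) (q₀ : ℤ) : Bool :=
  (B.all fun b => if b = c then resOK P (b * b) else resOK P b) &&
    (pshift q₀ P).all (0 ≤ ·) && decide ((c : ℤ) < (pshift q₀ P).headD 0) && decide (0 < c)

theorem exists_prime {P : List ℤ} {B : List ℕ} {c : ℕ} {q₀ : ℤ} (h : primeOK P B c q₀ = true) {q : ℤ}
    (hq : q₀ ≤ q) : ∃ r : ℕ, r.Prime ∧ (r : ℤ) ∣ peval P q ∧ r ∉ B := by
  simp only [primeOK, Bool.and_eq_true, decide_eq_true_eq] at h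
  obtain ⟨⟨⟨h1, h2⟩, h3⟩, h4⟩ := h
  have h5 := (head_le_peval h2 (sub_nonneg.2 hq)).1
  rw [peval_pshift, Int.cast_id, add_sub_cancel] at h5
  have h6 : (c : ℤ) < peval P q := h3.trans_le h5
  obtain ⟨n, hn⟩ := Int.eq_ofNat_of_zero_le (a := peval P q) (by omega)
  rw [hn] at h6 ⊢
  have h7 : c < n := by exact_mod_cast h6
  by_contra hcon
  push Not at hcon
  have h8 : ∀ r : ℕ, r.Prime → r ∣ n → r = c ∧ ¬ r * r ∣ n := fun r hr hd => by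
    have h9 := List.all_eq_true.1 h1 r (hcon r hr (Int.natCast_dvd_natCast.2 hd))
    split_ifs at h9 with h10
    · refine ⟨h10, fun h11 => not_dvd_of_resOK (Nat.mul_pos hr.pos hr.pos) h9 q ?_⟩
      rw [hn]
      exact Int.natCast_dvd_natCast.2 h11
    · exact absurd (hn ▸ Int.natCast_dvd_natCast.2 hd) (not_dvd_of_resOK hr.pos h9 q)
  obtain ⟨r, hr, m, hm⟩ := Nat.exists_prime_and_dvd (n := n) (by omega)
  have h9 := h8 r hr ⟨m, hm⟩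
  have h10 : m ≠ 1 := fun h => by
    rw [h, mul_one] at hm
    omega
  obtain ⟨s, hs, hsm⟩ := Nat.exists_prime_and_dvd h10
  have h11 := (h8 s hs (hm ▸ hsm.mul_left r)).1
  exact h9.2 (hm ▸ Nat.mul_dvd_mul_left r (by rwa [h9.1, ← h11]))

/-! ### vectors -/

def get (v : List ℤ) (i : ℕ) : ℤ := v.getD i 0

def mkv (l : ℕ) (f : ℕ → ℤ) : List ℤ := (List.range l).map f

def dot (u : List ℤ) : List ℤ → ℤ :=
  List.rec (fun _ => 0) (fun a _ ih v => List.casesOn v 0 fun b v => a * b + ih v) u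

/-- a list as a vector -/
def toF (l : ℕ) (v : List ℤ) : Fin l → ℤ := fun i => get v i

theorem get_mkv {l i : ℕ} (hi : i < l) (f : ℕ → ℤ) : get (mkv l f) i = f i := by
  simp [get, mkv, List.getD_eq_getElem?_getD, hi]

theorem length_mkv (l : ℕ) (f : ℕ → ℤ) : (mkv l f).length = l := by simp [mkv]

theorem toF_mkv (l : ℕ) (f : ℕ → ℤ) (i : Fin l) : toF l (mkv l f) i = f i := get_mkv i.2 f

theorem dot_eq {l : ℕ} {u : List ℤ} (hu : u.length = l) (v : List ℤ) :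
    dot u v = ∑ i, toF l u i * toF l v i := by
  induction u generalizing l v with
  | nil =>
    subst hu
    rfl
  | cons a u ih =>
    subst hu
    cases v with
    | nil => simp [dot, toF, get]
    | cons b v =>
      change a * b + dot u v = _
      rw [ih rfl v, List.length_cons, Fin.sum_univ_succ]
      rfl

/-- the data of a Cartan matrix and a twist -/
structure Ty where
  l : ℕ
  Am : List (List ℤ)
  pi : List ℕ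
  c : List ℤ
  L : List (List ℤ)

namespace Ty

variable (T : Ty)

def row (i : ℕ) : List ℤ := T.Am.getD i []

def reflV (i : ℕ) (v : List ℤ) : List ℤ :=
  forceI (dot (T.row i) v) fun d => forceL (mkv T.l fun j => if j = i then get v j - d else get v j) id

def cmap (wd : List ℕ) (v : List ℤ) : List ℤ :=
  forceL (wd.foldr T.reflV v) fun u => forceL (mkv T.l fun i => get T.c i * get u (T.pi.getD i 0)) id

def reflF (j : ℕ) (φ : List ℤ) : List ℤ := mkv T.l fun t => get φ t - get φ j * get (T.row j) t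

def memL (φ : List ℤ) : Bool := forceL φ fun φ => T.L.contains φ || forceL (psmul (-1) φ) fun ψ => T.L.contains ψ

def ok : Bool := ((List.range T.l).all fun i => (T.row i).length == T.l && T.L.contains (T.row i) &&
    decide (T.pi.getD i 0 < T.l)) &&
  T.L.all fun φ => φ.length == T.l && (List.range T.l).all fun j => T.memL (T.reflF j φ)

def hor (wd : List ℕ) (e : List ℤ) (cs : List ℤ) : List ℤ → List (List ℤ) × List ℤ :=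
  List.rec (fun x => ([], x)) (fun c _ ih x => forceL (T.cmap wd x) fun y =>
    forceL (mkv T.l fun i => get y i + c * get e i) fun x' => (x :: (ih x').1, (ih x').2)) cs

def unit (i : ℕ) : List ℤ := mkv T.l fun j => if j = i then 1 else 0

end Ty

/-- the vector `∑ z ^ j • x j` -/
def vec (l : ℕ) (z : ℤ) (xs : List (List ℤ)) : Fin l → ℤ := xs.foldr (fun x acc => toF l x + z • acc) 0

theorem dot_vec {l : ℕ} {φ : List ℤ} (hφ : φ.length = l) (z : ℤ) (xs : List (List ℤ)) :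
    ∑ i, toF l φ i * vec l z xs i = peval (xs.map (dot φ)) z := by
  induction xs with
  | nil => simp [vec, peval_nil]
  | cons x xs ih =>
    rw [List.map_cons, peval_cons, ← ih, dot_eq hφ, Int.cast_id, Finset.mul_sum, ← Finset.sum_add_distrib]
    refine Finset.sum_congr rfl fun i _ => ?_
    change _ * (toF l x i + z * vec l z xs i) = _
    ring

/-- the data of one torus -/
structure Tor where
  wd : List ℕ
  Gt : List ℤ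
  gt : List ℤ
  e : List ℤ
  xs : List (List ℤ)
  Us : List (List ℤ)
  B : List ℕ
  c : ℕ
  q₀ : ℤ

def Tor.ok (T : Ty) (S : Tor) : Bool :=
  S.wd.all (· < T.l) &&
  ((List.range T.l).all fun i => (T.hor S.wd (T.unit i) S.Gt (T.unit i)).2.all (· == 0)) &&
  ((T.hor S.wd S.e S.gt S.e).2.all (· == 0) && (T.hor S.wd S.e S.gt S.e).1 == S.xs) &&
  (S.Us.length == T.L.length && (T.L.zip S.Us).all fun z =>
    forceI (lead (redn (S.gt.length - 1) S.gt (forceL (S.xs.map (dot z.1)) fun P => pmul z.2 P))) fun c =>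
      c != 0 && ((S.B.prod ^ 30 : ℕ) : ℤ) % c == 0) &&
  primeOK (1 :: S.gt) S.B S.c S.q₀ &&
  ((List.range (T.l + 2)).all fun r => decide (r < 2) || S.B.any fun b => decide (1 < b) && r % b == 0)

section Sound

variable {T : Ty} {W : Type} [Group W] [Finite W] {M : CoxeterMatrix (Fin T.l)} (cs : CoxeterSystem M W)
  {A : Fin T.l → Fin T.l → ℤ} (h : IsCartan M A) (hA : ∀ i j, A i j = get (T.row i) j) (hT : T.ok = true)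

include hT in
theorem ok_row (i : Fin T.l) : (T.row i).length = T.l ∧ T.row i ∈ T.L ∧ T.pi.getD i 0 < T.l := by
  simp only [Ty.ok, Bool.and_eq_true, List.all_eq_true, beq_iff_eq, List.contains_iff_mem,
    decide_eq_true_eq] at hT
  have := hT.1 i (List.mem_range.2 i.2)
  exact ⟨this.1.1, this.1.2, this.2⟩

include hA hT in
theorem pairing_eq (i : Fin T.l) (v : List ℤ) : pairing A i (toF T.l v) = dot (T.row i) v := by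
  rw [dot_eq (ok_row hT i).1, pairing]
  simp only [hA]
  rfl

include hA hT in
theorem toF_reflV (i : Fin T.l) (v : List ℤ) : toF T.l (T.reflV i v) = refl A i (toF T.l v) := by
  funext j
  rw [Ty.reflV, forceI_eq, forceL_eq, id, toF_mkv, ← pairing_eq hA hT]
  change _ = toF T.l v j - (Pi.single i (pairing A i (toF T.l v)) : Fin T.l → ℤ) j
  by_cases hj : j = i
  · rw [if_pos (congrArg Fin.val hj), hj, Pi.single_eq_same]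
    rfl
  · rw [if_neg fun e => hj (Fin.ext e), Pi.single_eq_of_ne hj, sub_zero]
    rfl

/-- the element of a word -/
noncomputable def wordEl (wd : List ℕ) : W :=
  wd.foldr (fun i w => (if hi : i < T.l then cs.simple ⟨i, hi⟩ else 1) * w) 1

include hA hT in
theorem toF_word {wd : List ℕ} (hw : wd.all (· < T.l) = true) (v : List ℤ) :
    toF T.l (wd.foldr T.reflV v) = rep cs h (wordEl cs wd) (toF T.l v) := by
  induction wd with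
  | nil => simp [wordEl]
  | cons i wd ih =>
    rw [List.all_cons, Bool.and_eq_true, decide_eq_true_eq] at hw
    change toF T.l (T.reflV (⟨i, hw.1⟩ : Fin T.l) (wd.foldr T.reflV v)) =
      rep cs h ((if hi : i < T.l then cs.simple ⟨i, hi⟩ else 1) * wordEl cs wd) (toF T.l v)
    rw [toF_reflV hA hT ⟨i, hw.1⟩, ih hw.2, dif_pos hw.1, rep_mul_apply, rep_simple]

include hA hT in
theorem exists_functional (w : W) (i : Fin T.l) : ∃ φ ∈ T.L, φ.length = T.l ∧ ∃ ε : ℤ, (ε = 1 ∨ ε = -1) ∧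
    ∀ x, pairing A i (rep cs h w x) = ε * ∑ j, toF T.l φ j * x j := by
  induction w using cs.simple_induction_right with
  | one =>
    refine ⟨_, (ok_row hT i).2.1, (ok_row hT i).1, 1, Or.inl rfl, fun x => ?_⟩
    rw [map_one, one_mul, pairing]
    simp only [hA]
    rfl
  | mul_simple_right w j ih =>
    obtain ⟨φ, hφ, hl, ε, hε, hx⟩ := ih
    have h1 : ∀ x, pairing A i (rep cs h (w * cs.simple j) x) = ε * ∑ t, toF T.l (T.reflF j φ) t * x t := fun x => by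
      rw [rep_mul_apply, hx, rep_simple]
      congr 1
      change ∑ t, _ * (x t - (Pi.single j (pairing A j x) : Fin T.l → ℤ) t) = _
      simp only [Ty.reflF, toF_mkv, mul_sub, sub_mul, Finset.sum_sub_distrib, Pi.single_apply, mul_ite, mul_zero,
        Finset.sum_ite_eq', Finset.mem_univ, if_true, pairing, Finset.mul_sum, hA, mul_assoc]
      rfl
    have h2 := hT
    simp only [Ty.ok, Bool.and_eq_true, List.all_eq_true, beq_iff_eq, Ty.memL, forceL_eq, Bool.or_eq_true,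
      List.contains_iff_mem] at h2
    rcases (h2.2 φ hφ).2 j (List.mem_range.2 j.2) with h3 | h3
    · exact ⟨_, h3, (h2.2 _ h3).1, ε, hε, h1⟩
    · refine ⟨_, h3, (h2.2 _ h3).1, -ε, by omega, fun x => ?_⟩
      rw [h1, neg_mul, ← mul_neg, ← Finset.sum_neg_distrib]
      congr 1
      refine Finset.sum_congr rfl fun t _ => ?_
      simp [toF, get, psmul, Ty.reflF, mkv, List.getD_eq_getElem?_getD]
      ring

variable {z : ℤ} {ψ : (Fin T.l → ℤ) →+ (Fin T.l → ℤ)} {wd : List ℕ}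
  (hψ : ∀ v : List ℤ, ψ (toF T.l v) = z • toF T.l (T.cmap wd v))

include hψ in
theorem hor_spec (e cs x : List ℤ) :
    vec T.l z (T.hor wd e cs x).1 - ψ (vec T.l z (T.hor wd e cs x).1) =
      toF T.l x + (z * peval cs z) • toF T.l e - z ^ cs.length • toF T.l (T.hor wd e cs x).2 := by
  induction cs generalizing x with
  | nil =>
    change (0 : Fin T.l → ℤ) - ψ 0 = toF T.l x + (z * 0) • toF T.l e - z ^ 0 • toF T.l x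
    simp
  | cons c cs ih =>
    have h1 : T.hor wd e (c :: cs) x = (x :: (T.hor wd e cs (mkv T.l fun i => get (T.cmap wd x) i + c * get e i)).1,
        (T.hor wd e cs (mkv T.l fun i => get (T.cmap wd x) i + c * get e i)).2) :=
      (forceL_eq _ _).trans (forceL_eq _ _)
    have h2 : toF T.l (mkv T.l fun i => get (T.cmap wd x) i + c * get e i) =
        toF T.l (T.cmap wd x) + c • toF T.l e := funext fun i => toF_mkv _ _ _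
    have h3 := ih (mkv T.l fun i => get (T.cmap wd x) i + c * get e i)
    rw [h1]
    change toF T.l x + z • vec T.l z _ - ψ (toF T.l x + z • vec T.l z _) = _
    rw [map_add, map_zsmul, hψ, add_sub_add_comm, ← smul_sub, h3, h2, peval_cons, List.length_cons, Int.cast_id]
    module

theorem toF_zeros {v : List ℤ} (hv : v.all (· == 0) = true) : toF T.l v = 0 := by
  funext i
  simp only [toF, get, List.getD_eq_getElem?_getD, Pi.zero_apply]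
  cases hi : v[(i : ℕ)]? with
  | none => rfl
  | some a => simpa using List.all_eq_true.1 hv a (List.mem_of_getElem? hi)

include hψ in
theorem hor_final {e cs : List ℤ} (h0 : (T.hor wd e cs e).2.all (· == 0) = true) :
    vec T.l z (T.hor wd e cs e).1 - ψ (vec T.l z (T.hor wd e cs e).1) = peval (1 :: cs) z • toF T.l e := by
  rw [hor_spec hψ, toF_zeros h0, smul_zero, sub_zero, peval_cons, add_smul]
  simp

include hA hT in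
theorem sound {S : Tor} (hS : S.ok T = true) (hB : ∀ b ∈ S.B, b.Prime) {z : ℤ} (hz : S.q₀ ≤ z)
    {ψ ψ₀ : (Fin T.l → ℤ) →+ (Fin T.l → ℤ)} (h0 : ∀ b, ψ b = ψ₀ (rep cs h (wordEl cs S.wd) b))
    (h1 : ∀ b (i j : Fin T.l), (j : ℕ) = T.pi.getD i 0 → ψ₀ b i = z * (get T.c i * b j)) :
    (∀ i, ∃ y, y - ψ y = peval (1 :: S.Gt) z • sr i) ∧
    ∃ (r : ℕ) (x η : Fin T.l → ℤ), r.Prime ∧ T.l + 1 < r ∧ x - ψ x = (r : ℤ) • η ∧
      ∀ a, IsRoot cs h a → ¬ (r : ℤ) ∣ cpr cs h x a := by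
  simp only [Tor.ok, Bool.and_eq_true] at hS
  obtain ⟨⟨⟨⟨⟨s1, s2⟩, s3, s4⟩, s5, s6⟩, s7⟩, s8⟩ := hS
  have hψ : ∀ v : List ℤ, ψ (toF T.l v) = z • toF T.l (T.cmap S.wd v) := fun v => by
    funext i
    rw [h0, h1 _ i ⟨_, (ok_row hT i).2.2⟩ rfl, ← toF_word cs h hA hT s1, Ty.cmap, forceL_eq, forceL_eq, id,
      Pi.smul_apply, toF_mkv]
    rfl
  refine ⟨fun i => ⟨_, (hor_final hψ (List.all_eq_true.1 s2 i (List.mem_range.2 i.2))).trans ?_⟩, ?_⟩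
  · congr 1
    funext j
    rw [Ty.unit, toF_mkv, sr, Pi.single_apply]
    simp only [Fin.ext_iff]
  obtain ⟨r, hr, ⟨m, hm⟩, hrB⟩ := exists_prime s7 hz
  have hx := hor_final hψ s3
  rw [beq_iff_eq.1 s4, hm, mul_smul] at hx
  refine ⟨r, _, _, hr, ?_, hx, ?_⟩
  · by_contra hlt
    have h2 := List.all_eq_true.1 s8 r (List.mem_range.2 (by omega))
    simp only [Bool.or_eq_true, decide_eq_true_eq, List.any_eq_true, Bool.and_eq_true, beq_iff_eq] at h2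
    rcases h2 with h2 | ⟨b, hb, h3, h4⟩
    · exact absurd hr.two_le (by omega)
    · rcases (Nat.dvd_prime hr).1 (Nat.dvd_of_mod_eq_zero h4) with h5 | h5
      · omega
      · exact hrB (h5 ▸ hb)
  · rintro _ ⟨w, i, rfl⟩ hd
    have := Fact.mk hr
    obtain ⟨φ, hφ, hl, ε, hε, hf⟩ := exists_functional cs h hA hT w⁻¹ i
    rw [cpr_rep_sr, hf, dot_vec hl] at hd
    have hd' : (r : ℤ) ∣ peval (S.xs.map (dot φ)) z := by
      rcases hε with rfl | rfl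
      · rwa [one_mul] at hd
      · rwa [neg_one_mul, dvd_neg] at hd
    obtain ⟨n, hn, rfl⟩ := List.getElem_of_mem hφ
    have hn' : n < S.Us.length := by rw [beq_iff_eq.1 s5]; exact hn
    have h3 := List.all_eq_true.1 s6 (T.L[n], S.Us[n]) (by
      rw [← List.getElem_zip (h := by rw [List.length_zip]; omega)]
      exact List.getElem_mem _)
    simp only [forceI_eq, forceL_eq, Bool.and_eq_true, bne_iff_ne, beq_iff_eq] at h3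
    have hg : peval (1 :: S.gt) (z : ZMod r) = 0 := by
      rw [← peval_cast, hm]
      simp
    have h4 : peval (S.xs.map (dot T.L[n])) (z : ZMod r) = 0 := by
      rw [← peval_cast]
      exact (ZMod.intCast_zmod_eq_zero_iff_dvd _ _).2 hd'
    have h5 := lead_eq_zero (ne_zero_of_root hg) (peval_redn hg (S.gt.length - 1)
      (Q := pmul S.Us[n] (S.xs.map (dot T.L[n]))) (by rw [peval_pmul, h4, mul_zero]))
    have h6 := ((ZMod.intCast_zmod_eq_zero_iff_dvd _ _).1 h5).trans (Int.dvd_of_emod_eq_zero h3.2)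
    obtain ⟨b, hb, h7⟩ := (Prime.dvd_prod_iff hr.prime).1 (hr.dvd_of_dvd_pow (Int.natCast_dvd_natCast.1 h6))
    exact hrB ((Nat.prime_dvd_prime_iff_eq hr (hB b hb)).1 h7 ▸ hb)

end Sound

/-- the orders of two tori have only the common prime divisors `2`, `3` -/
def copOK (G₁ G₂ U V : List ℤ) : Bool :=
  forceI (lead (padd (pmul U (1 :: G₁)) (pmul V (1 :: G₂)))) fun c => c != 0 && ((6 ^ 30 : ℕ) : ℤ) % c == 0

theorem cop_sound {G₁ G₂ U V : List ℤ} (h : copOK G₁ G₂ U V = true) {r : ℕ} (hr : r.Prime) (h5 : 5 ≤ r) (z : ℤ) :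
    ¬ (r : ℤ) ∣ peval (1 :: G₁) z ∨ ¬ (r : ℤ) ∣ peval (1 :: G₂) z := by
  by_contra hcon
  push Not at hcon
  have := Fact.mk hr
  have h1 := (ZMod.intCast_zmod_eq_zero_iff_dvd _ r).2 hcon.1
  have h2 := (ZMod.intCast_zmod_eq_zero_iff_dvd _ r).2 hcon.2
  rw [peval_cast] at h1 h2
  simp only [copOK, forceI_eq, Bool.and_eq_true, bne_iff_ne, beq_iff_eq] at h
  have h3 := lead_eq_zero (ne_zero_of_root h1) (Q := padd (pmul U (1 :: G₁)) (pmul V (1 :: G₂)))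
    (by rw [peval_padd, peval_pmul, peval_pmul, h1, h2, mul_zero, mul_zero, add_zero])
  have h4 := ((ZMod.intCast_zmod_eq_zero_iff_dvd _ _).1 h3).trans (Int.dvd_of_emod_eq_zero h.2)
  have h6 : r ∣ 2 * 3 := hr.dvd_of_dvd_pow (Int.natCast_dvd_natCast.1 h4)
  rcases (Nat.Prime.dvd_mul hr).1 h6 with h7 | h7 <;> have := Nat.le_of_dvd (by norm_num) h7 <;> omega

end Cfsg.Agent.DL.Rows.Cert

private theorem dce_91de354db73a : _root_.True := by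
  try have : _root_.True := by simp only [_root_.Cfsg.Agent.DL.Rows.Cert.vec.eq_1]
  try have : _root_.True := by simp only [_root_.Cfsg.Agent.DL.Rows.Cert.Tor.ok.eq_1]
  try have : _root_.True := by simp only [_root_.Cfsg.Agent.DL.Rows.Cert.Ty.ok.eq_1]
  try have : _root_.True := by simp only [_root_.Cfsg.Agent.DL.Rows.Cert.copOK.eq_1]
  try have : _root_.True := by simp only [_root_.Cfsg.Agent.DL.Rows.Cert.Ty.unit.eq_1]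
  try have : _root_.True := by simp only [_root_.Cfsg.Agent.DL.Rows.Cert.dot.eq_1]
  try have : _root_.True := by simp only [_root_.Cfsg.Agent.DL.Rows.Cert.Ty.reflV.eq_1]
  try have : _root_.True := by simp only [_root_.Cfsg.Agent.DL.Rows.Cert.Ty.reflF.eq_1]
  try have : _root_.True := by simp only [_root_.Cfsg.Agent.DL.Rows.Cert.mkv.eq_1]
  try have : _root_.True := by simp only [_root_.Cfsg.Agent.DL.Rows.Cert.Ty.cmap.eq_1]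
  try have : _root_.True := by simp only [_root_.Cfsg.Agent.DL.Rows.Cert.Ty.memL.eq_1]
  try have : _root_.True := by simp only [_root_.Cfsg.Agent.DL.Rows.Cert.get.eq_1]
  try have : _root_.True := by simp only [_root_.Cfsg.Agent.DL.Rows.Cert.wordEl.eq_1]
  try have : _root_.True := by simp only [_root_.Cfsg.Agent.DL.Rows.Cert.primeOK.eq_1]
  try have : _root_.True := by simp only [_root_.Cfsg.Agent.DL.Rows.Cert.toF.eq_1]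
  try have : _root_.True := by simp only [_root_.Cfsg.Agent.DL.Rows.Cert.psmul.eq_1]
  exact _root_.True.intro
end

-- part: DL/Rows/Data
section
prune_inst 0x2420480565000000001c800260007ea5f70005b0022b8001f9c40d460ccff763a0c32f21f6c01e0493fcb2ed787bc04000000159001000402000b600411a01a094af7ee6373cbf0cbf0087c0fa0f790d02001100000000000000000000041004000000000
set_option linter.all false
open scoped Cfsg.Agent.FastGrp
private noncomputable def lq26b1ef3c63 {T : Sort _} (f :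
    type_of% (@_root_.List.cons.{0}) →
    type_of% (@_root_.List.nil.{0}) →
    type_of% (@_root_.Cfsg.Agent.DL.Rows.Cert.copOK) → T) : T :=
  f (@_root_.List.cons.{0}) (@_root_.List.nil.{0}) (@_root_.Cfsg.Agent.DL.Rows.Cert.copOK)

/-!
# The certificates for the exceptional types (helper7, generated)
-/

set_option autoImplicit false

namespace Cfsg.Agent.DL.Rows.Cert

def tyG2 : Ty where
  l := 2
  Am := [[2, -3], [-1, 2]]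
  pi := [0, 1]
  c := [1, 1]
  L :=
    (beta% delta% lq26b1ef3c63 fun a b _ =>
 (a (a 2<|a (-3)<|b)<|a (a (-1)<|a 2<|b)<|a (a (-1)<|a 3<|b)<|a (a 1<|a (-1)<|b)<|a (a 1<|a 0<|b)<|a (a 0<|a 1<|b)<|b))

theorem okG2 : tyG2.ok = true := by decide +kernel

def torG2a : Tor where
  wd := [0, 1, 0, 1]
  Gt := [1, 1]
  gt := [1, 1]
  e := [1, 0]
  xs :=
    [[1, 0], [2, 1]]
  Us :=
    (beta% delta% lq26b1ef3c63 fun a b _ =>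
 (a (a (-2)<|a (-1)<|b)<|a (a 1<|a 1<|b)<|a (a 1<|a 2<|b)<|a (a (-1)<|a 0<|b)<|a (a (-1)<|a 1<|b)<|a (a 0<|a 1<|b)<|b))
  B := [2, 3]
  c := 3
  q₀ := 3

theorem okG2a : torG2a.ok tyG2 = true := by decide +kernel

def torG2b : Tor where
  wd := [0, 1]
  Gt := [-1, 1]
  gt := [-1, 1]
  e := [1, 0]
  xs :=
    [[1, 0], [1, 1]]
  Us :=
    (beta% delta% lq26b1ef3c63 fun a b _ =>
 (a (a (-2)<|a 1<|b)<|a (a 1<|a 0<|b)<|a (a 1<|a 1<|b)<|a (a (-1)<|a 1<|b)<|a (a (-1)<|a 2<|b)<|a (a 0<|a 1<|b)<|b))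
  B := [2, 3]
  c := 3
  q₀ := 3

theorem okG2b : torG2b.ok tyG2 = true := by decide +kernel

theorem copG2 : copOK torG2a.Gt torG2b.Gt [1, -1]
    [1, 1] = true := by decide +kernel

def tyF4 : Ty where
  l := 4
  Am := (beta% delta% lq26b1ef3c63 fun a b _ =>
 (a (a 2<|a (-1)<|a 0<|a 0<|b)<|a (a (-1)<|a 2<|a (-2)<|a 0<|b)<|a (a 0<|a (-1)<|a 2<|a (-1)<|b)<|a (a 0<|a 0<|a (-1)<|a 2<|b)<|b))
  pi := [0, 1, 2, 3]
  c := [1, 1, 1, 1]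
  L :=
    (beta% delta% lq26b1ef3c63 fun a b _ =>
 (a (a 2<|a (-1)<|a 0<|a 0<|b)<|a (a (-1)<|a 2<|a (-2)<|a 0<|b)<|a (a 0<|a (-1)<|a 2<|a (-1)<|b)<|a (a 0<|a 0<|a (-1)<|a 2<|b)<|a (a 1<|a 1<|a (-2)<|a 0<|b)<|a (a (-1)<|a 0<|a 2<|a (-2)<|b)<|a (a (-1)<|a 1<|a 0<|a (-1)<|b)<|
 a (a 0<|a (-1)<|a 1<|a 1<|b)<|a (a 1<|a (-1)<|a 2<|a (-2)<|b)<|a (a (-1)<|a 0<|a 0<|a 2<|b)<|a (a 1<|a 0<|a 0<|a (-1)<|b)<|a (a (-1)<|a 1<|a (-1)<|a 1<|b)<|a (a 0<|a 1<|a 0<|a (-2)<|b)<|a (a 1<|a (-1)<|a 0<|a 2<|b)<|a (a 1<|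
 a 0<|a (-1)<|a 1<|b)<|a (a (-1)<|a 0<|a 1<|a 0<|b)<|a (a 0<|a 1<|a (-2)<|a 2<|b)<|a (a 1<|a (-1)<|a 1<|a 0<|b)<|a (a 0<|a (-1)<|a 2<|a 0<|b)<|a (a 0<|a 1<|a (-1)<|a 0<|b)<|a (a (-1)<|a 1<|a 0<|a 0<|b)<|a (a 0<|a 0<|a 1<|
 a (-1)<|b)<|a (a 1<|a 0<|a 0<|a 0<|b)<|a (a 0<|a 0<|a 0<|a 1<|b)<|b))

theorem okF4 : tyF4.ok = true := by decide +kernel

def torF4a : Tor where
  wd := [1, 0, 3, 2, 1, 2]
  Gt := [0, 0, 0, 1]
  gt := [0, 0, 0, 1]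
  e := [1, 0, 0, 0]
  xs :=
    (beta% delta% lq26b1ef3c63 fun a b _ =>
 (a (a 1<|a 0<|a 0<|a 0<|b)<|a (a 0<|a 1<|a 1<|a 1<|b)<|a (a 1<|a 2<|a 1<|a 0<|b)<|a (a 0<|a (-1)<|a 0<|a 0<|b)<|b))
  Us :=
    (beta% delta% lq26b1ef3c63 fun a b _ =>
 (a (a 0<|a (-1)<|a (-2)<|a (-1)<|b)<|a (a 1<|a 0<|a (-1)<|a (-2)<|b)<|a (a 0<|a 0<|a 0<|a 1<|b)<|a (a 1<|a (-1)<|a (-1)<|a (-1)<|b)<|a (a 0<|a 0<|a (-1)<|a (-1)<|b)<|a (a (-1)<|a 0<|a 1<|a 0<|b)<|a (a (-1)<|a 0<|a 1<|a 1<|b)<|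
 a (a (-1)<|a (-1)<|a 0<|a 1<|b)<|a (a (-1)<|a 0<|a 0<|a 1<|b)<|a (a (-1)<|a (-2)<|a (-1)<|a 0<|b)<|a (a (-1)<|a (-1)<|a (-1)<|a 0<|b)<|a (a 0<|a (-1)<|a (-1)<|a (-1)<|b)<|a (a (-2)<|a (-1)<|a 0<|a 1<|b)<|a (a 0<|a (-1)<|a (-1)<|
 a 0<|b)<|a (a 0<|a 0<|a (-1)<|a 0<|b)<|a (a (-1)<|a (-1)<|a 1<|a 1<|b)<|a (a 0<|a (-1)<|a 0<|a (-1)<|b)<|a (a (-1)<|a (-1)<|a (-1)<|a 1<|b)<|a (a 0<|a (-1)<|a 0<|a 1<|b)<|a (a (-1)<|a (-1)<|a (-1)<|a (-1)<|b)<|a (a (-1)<|a (-1)<|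
 a 0<|a 0<|b)<|a (a (-1)<|a 0<|a 0<|a 0<|b)<|a (a (-1)<|a 0<|a (-1)<|a 0<|b)<|a (a 0<|a (-1)<|a 0<|a 0<|b)<|b))
  B := [2, 3, 5]
  c := 2
  q₀ := 2

theorem okF4a : torF4a.ok tyF4 = true := by decide +kernel

def torF4b : Tor where
  wd := [0, 1, 2, 3]
  Gt := [0, -1, 0, 1]
  gt := [0, -1, 0, 1]
  e := [1, 0, 0, 0]
  xs :=
    (beta% delta% lq26b1ef3c63 fun a b _ =>
 (a (a 1<|a 0<|a 0<|a 0<|b)<|a (a 0<|a 1<|a 0<|a 0<|b)<|a (a 0<|a 1<|a 1<|a 0<|b)<|a (a 1<|a 1<|a 1<|a 1<|b)<|b))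
  Us :=
    (beta% delta% lq26b1ef3c63 fun a b _ =>
 (a (a (-1)<|a (-1)<|a (-1)<|a 0<|b)<|a (a (-1)<|a (-2)<|a 0<|a 1<|b)<|a (a 0<|a 1<|a 1<|a 0<|b)<|a (a 1<|a 1<|a 0<|a 0<|b)<|a (a 0<|a (-1)<|a (-1)<|a 1<|b)<|a (a (-1)<|a 0<|a 2<|a 1<|b)<|a (a (-1)<|a (-1)<|a 1<|a 1<|b)<|
 a (a 0<|a 1<|a 0<|a 0<|b)<|a (a (-2)<|a (-1)<|a 1<|a 1<|b)<|a (a 1<|a 0<|a 0<|a 1<|b)<|a (a (-1)<|a 0<|a 0<|a 0<|b)<|a (a 0<|a 0<|a 1<|a 1<|b)<|a (a (-1)<|a (-1)<|a 1<|a 0<|b)<|a (a 0<|a 1<|a 1<|a 1<|b)<|a (a (-1)<|a (-1)<|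
 a 0<|a 1<|b)<|a (a 0<|a 0<|a 1<|a 0<|b)<|a (a (-1)<|a (-1)<|a 1<|a 2<|b)<|a (a (-1)<|a 0<|a 1<|a 1<|b)<|a (a (-1)<|a 1<|a 1<|a 0<|b)<|a (a 0<|a (-1)<|a 0<|a 1<|b)<|a (a 0<|a (-1)<|a 1<|a 1<|b)<|a (a (-1)<|a 0<|a 1<|a 0<|b)<|
 a (a (-1)<|a 0<|a 0<|a 1<|b)<|a (a 0<|a 0<|a 0<|a 1<|b)<|b))
  B := [2, 3, 5]
  c := 1
  q₀ := 2

theorem okF4b : torF4b.ok tyF4 = true := by decide +kernel

theorem copF4 : copOK torF4a.Gt torF4b.Gt [1, 0, -1]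
    [0, 0, 1] = true := by decide +kernel

def tyE6 : Ty where
  l := 6
  Am := (beta% delta% lq26b1ef3c63 fun a b _ =>
 (a (a 2<|a 0<|a (-1)<|a 0<|a 0<|a 0<|b)<|a (a 0<|a 2<|a 0<|a (-1)<|a 0<|a 0<|b)<|a (a (-1)<|a 0<|a 2<|a (-1)<|a 0<|a 0<|b)<|a (a 0<|a (-1)<|a (-1)<|a 2<|a (-1)<|a 0<|b)<|a (a 0<|a 0<|a 0<|a (-1)<|a 2<|a (-1)<|b)<|a (a 0<|a 0<|a 0<|a 0<|a (-1)<|a 2<|b)<|b))
  pi := [0, 1, 2, 3, 4, 5]
  c := [1, 1, 1, 1, 1, 1]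
  L :=
    (let yq1 : List (List ℤ) := (let yq2 : List (List ℤ) := (let yq3 : List (List ℤ) := %[[0, 0, 1, 0, -1, 1], [1, 0, -1, 0, 1, 0], [0, 0, 1, -1, 1, 0], [0, -1, 0, 1, 0, 0], [0, 1,
    0, 0, 0, 0] | []];
  %[[-1, 0, 0, 1, -1, 1], [0, 0, 1, 0, 0, -1], [1, 0, -1, 1, -1, 1],
    [-1, 0, 0, 0, 1, 0] | yq3]);
  (let yq4 : type_of% yq2 := %[[1, -1, 0, 0, 0, 1], [-1, 0, 0, 1, 0, -1], [-1, 1, 1, -1, 0, 1],
    [1, 0, -1, 1, 0, -1], [1, 1, 0, -1, 0, 1] | yq2];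
  %[[-1, 1, 1, -1, 1, -1], [0, 1, -1, 0, 0, 1],
    [-1, -1, 1, 0, 0, 1], [1, 1, 0, -1, 1, -1] | yq4]));
  (let yq5 : type_of% yq1 := (let yq6 : type_of% yq1 := %[[0, 1, -1, 0, 1, -1], [-1, -1, 1, 0, 1, -1],
    [0, -1, -1, 1, 0, 1], [1, 1, 0, 0, -1, 0], [1, -1, 0, 0, 1, -1] | yq1];
  %[[0, -1, -1, 1, 1, -1],
    [0, 0, 0, -1, 1, 1], [1, -1, 0, 1, -1, 0], [-1, 1, 1, 0, -1, 0] | yq6]);
  (let yq7 : type_of% yq5 := %[[0, 0, 0, -1, 2, -1],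
    [0, 0, 0, 0, -1, 2], [1, 0, 1, -1, 0, 0], [0, 1, -1, 1, -1, 0], [-1, -1, 1, 1, -1, 0] | yq5];
  %[[2, 0, -1, 0, 0, 0], [0, 2, 0, -1, 0, 0], [-1, 0, 2, -1, 0, 0], [0, -1, -1, 2, -1, 0] | yq7])))

private noncomputable def _root_.Cfsg.Agent.KO7ce1ea2.oEq.{ku} (α : Sort ku) (a b : Nat) (f t : α) : α := @Decidable.rec (a = b) (fun _ => α) (fun _ => f) (fun _ => t) (Nat.decEq a b)
private noncomputable def _root_.Cfsg.Agent.KO7ce1ea2.k0.{ku} (α : Sort ku) (a b : Nat) (f t : α) : α := @Bool.rec (fun _ => α) f t (Nat.beq a b)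
private theorem _root_.Cfsg.Agent.KO7ce1ea2.e0.{ku} : @_root_.Cfsg.Agent.KO7ce1ea2.oEq.{ku} = @_root_.Cfsg.Agent.KO7ce1ea2.k0.{ku} := funext fun α => funext fun a => funext fun b => funext fun f => funext fun t => by delta _root_.Cfsg.Agent.KO7ce1ea2.oEq _root_.Cfsg.Agent.KO7ce1ea2.k0; cases h : Nat.beq a b <;> cases Nat.decEq a b <;> rename_i g <;> first | rfl | exact absurd g (Nat.ne_of_beq_eq_false h) | exact absurd (Nat.eq_of_beq_eq_true h) g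
private noncomputable def _root_.Cfsg.Agent.KO7ce1ea2.oLe.{ku} (α : Sort ku) (a b : Nat) (f t : α) : α := @Decidable.rec (@LE.le Nat instLENat a b) (fun _ => α) (fun _ => f) (fun _ => t) (Nat.decLe a b)
private noncomputable def _root_.Cfsg.Agent.KO7ce1ea2.k1.{ku} (α : Sort ku) (a b : Nat) (f t : α) : α := @Bool.rec (fun _ => α) f t (Nat.ble a b)
private theorem _root_.Cfsg.Agent.KO7ce1ea2.e1.{ku} : @_root_.Cfsg.Agent.KO7ce1ea2.oLe.{ku} = @_root_.Cfsg.Agent.KO7ce1ea2.k1.{ku} := funext fun α => funext fun a => funext fun b => funext fun f => funext fun t => by delta _root_.Cfsg.Agent.KO7ce1ea2.oLe _root_.Cfsg.Agent.KO7ce1ea2.k1; cases h : Nat.ble a b <;> cases Nat.decLe a b <;> rename_i g <;> first | rfl | exact absurd (h.symm.trans (Nat.ble_eq_true_of_le g)) Bool.false_ne_true | exact absurd (Nat.le_of_ble_eq_true h) g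
private theorem _root_.Cfsg.Agent.KO7ce1ea2.e2.{ku, kv} {α : Type kv} {M : List α → Sort ku} (φ : ∀ l, M l) {z : M List.nil} {s : ∀ a l, M l → M (List.cons a l)} (h0 : φ List.nil = z) (hs : ∀ a l, φ (List.cons a l) = s a l (φ l)) (l : List α) : φ l = @List.rec α M z s l := List.rec h0 (fun a l ih => (hs a l).trans (congrArg (s a l) ih)) l
private noncomputable def _root_.Cfsg.Agent.KO7ce1ea2.k3.{ku0} : type_of% @List.all.{ku0} := @(fun x0 x1 x2 => @List.rec.{(ku0+1), ku0} @x0 @(fun x3 => (@x0 → @Bool) → @Bool) @(fun x3 => @Bool.true) @(fun x3 x4 x5 x6 => @Bool.rec.{1} @(fun x7 => @Bool) @Bool.false (@x5 @x6) (@x6 @x3)) @x1 @x2)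
private theorem _root_.Cfsg.Agent.KO7ce1ea2.e3.{ku0} : @List.all.{ku0} = @_root_.Cfsg.Agent.KO7ce1ea2.k3.{ku0} := by delta _root_.Cfsg.Agent.KO7ce1ea2.k3; funext a0 a1 a2; refine (congrFun (_root_.Cfsg.Agent.KO7ce1ea2.e2 (fun a1 a2 => @List.all.{ku0} a0 a1 a2) ?_ (fun c0 c1 => ?_) a1) a2 :) <;> (rfl')
private theorem _root_.Cfsg.Agent.KO7ce1ea2.e4.{ku} {M : Nat → Sort ku} (φ : ∀ n, M n) {z : M Nat.zero} {s : ∀ n, M n → M (Nat.succ n)} (h0 : φ Nat.zero = z) (hs : ∀ n, φ (Nat.succ n) = s n (φ n)) (n : Nat) : φ n = @Nat.rec M z s n := Nat.rec h0 (fun n ih => (hs n).trans (congrArg (s n) ih)) n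
private noncomputable def _root_.Cfsg.Agent.KO7ce1ea2.k5 : type_of% @List.range.loop := @(fun x0 x1 => @Nat.rec.{1} @(fun x2 => (@List.{0} ℕ) → @List.{0} ℕ) @(fun x2 => @x2) @(fun x2 x3 x4 => @x3 (@x2 :: @x4)) @x0 @x1)
private theorem _root_.Cfsg.Agent.KO7ce1ea2.e5 : @List.range.loop = @_root_.Cfsg.Agent.KO7ce1ea2.k5 := by delta _root_.Cfsg.Agent.KO7ce1ea2.k5; funext a0 a1; refine (congrFun (_root_.Cfsg.Agent.KO7ce1ea2.e4 (fun a0 a1 => @List.range.loop a0 a1) ?_ (fun c0 => ?_) a0) a1 :) <;> (rfl')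
private noncomputable def _root_.Cfsg.Agent.KO7ce1ea2.k6 : (by first | exact type_of% @Cfsg.Agent.DL.Rows.Cert.forceN | exact Unit : Sort _) := by first | (refine @Subtype.val _ (fun g => @Cfsg.Agent.DL.Rows.Cert.forceN = @g) (@Subtype.mk _ _ (@(fun x0 x1 x2 => @Nat.rec.{1} @(fun x3 => @x0) (@x2 (nat_lit 0)) @(fun x3 x4 => @x2 (@Nat.succ @x3)) @x1)) ?_); rfl') | exact @Cfsg.Agent.DL.Rows.Cert.forceN | exact ()
private theorem _root_.Cfsg.Agent.KO7ce1ea2.e6 : (by first | exact @Cfsg.Agent.DL.Rows.Cert.forceN = @_root_.Cfsg.Agent.KO7ce1ea2.k6 | exact True : Prop) := by first | (delta _root_.Cfsg.Agent.KO7ce1ea2.k6; exact @Subtype.property _ (fun g => @Cfsg.Agent.DL.Rows.Cert.forceN = @g) _) | rfl | trivial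
private noncomputable def _root_.Cfsg.Agent.KO7ce1ea2.k7 : (by first | exact type_of% @Cfsg.Agent.DL.Rows.Cert.forceI | exact Unit : Sort _) := by first | (refine @Subtype.val _ (fun g => @Cfsg.Agent.DL.Rows.Cert.forceI = @g) (@Subtype.mk _ _ (@(fun x0 x1 x2 => @Int.rec.{1} @(fun x3 => @x0) @(fun x3 => @Cfsg.Agent.KO7ce1ea2.k6 _ @x3 @(fun x4 => @x2 (@Int.ofNat @x4))) @(fun x3 => @Cfsg.Agent.KO7ce1ea2.k6 _ @x3 @(fun x4 => @x2 (@Int.negSucc @x4))) @x1)) ?_); rewrite [← Cfsg.Agent.KO7ce1ea2.e6]; (try delta Cfsg.Agent.DL.Rows.Cert.forceI); (try generalize @Cfsg.Agent.DL.Rows.Cert.forceN = g0); rfl') | exact @Cfsg.Agent.DL.Rows.Cert.forceI | exact ()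
private theorem _root_.Cfsg.Agent.KO7ce1ea2.e7 : (by first | exact @Cfsg.Agent.DL.Rows.Cert.forceI = @_root_.Cfsg.Agent.KO7ce1ea2.k7 | exact True : Prop) := by first | (delta _root_.Cfsg.Agent.KO7ce1ea2.k7; exact @Subtype.property _ (fun g => @Cfsg.Agent.DL.Rows.Cert.forceI = @g) _) | rfl | trivial
private noncomputable def _root_.Cfsg.Agent.KO7ce1ea2.k8 : (by first | exact type_of% @Cfsg.Agent.DL.Rows.Cert.forceL | exact Unit : Sort _) := by first | (refine @Subtype.val _ (fun g => @Cfsg.Agent.DL.Rows.Cert.forceL = @g) (@Subtype.mk _ _ (@(fun x0 x1 => @List.rec.{1, 0} ℤ @(fun x2 => ((@List.{0} ℤ) → @x0) → @x0) @(fun x2 => @x2 []) @(fun x2 x3 x4 x5 => @Cfsg.Agent.KO7ce1ea2.k7 _ @x2 @(fun x6 => @x4 @(fun x7 => @x5 (@x6 :: @x7)))) @x1)) ?_); rewrite [← Cfsg.Agent.KO7ce1ea2.e7]; (try delta Cfsg.Agent.DL.Rows.Cert.forceL); (try generalize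 @Cfsg.Agent.DL.Rows.Cert.forceI = g0); rfl') | exact @Cfsg.Agent.DL.Rows.Cert.forceL | exact ()
private theorem _root_.Cfsg.Agent.KO7ce1ea2.e8 : (by first | exact @Cfsg.Agent.DL.Rows.Cert.forceL = @_root_.Cfsg.Agent.KO7ce1ea2.k8 | exact True : Prop) := by first | (delta _root_.Cfsg.Agent.KO7ce1ea2.k8; exact @Subtype.property _ (fun g => @Cfsg.Agent.DL.Rows.Cert.forceL = @g) _) | rfl | trivial
private noncomputable def _root_.Cfsg.Agent.KO7ce1ea2.k9.{ku0, ku1} : type_of% @List.map.{ku0, ku1} := @(fun x0 x1 x2 x3 => @List.rec.{(ku1+1), ku0} @x0 @(fun x4 => @List.{ku1} @x1) [] @(fun x4 x5 x6 => (@x2 @x4) :: @x6) @x3)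
private theorem _root_.Cfsg.Agent.KO7ce1ea2.e9.{ku0, ku1} : @List.map.{ku0, ku1} = @_root_.Cfsg.Agent.KO7ce1ea2.k9.{ku0, ku1} := by delta _root_.Cfsg.Agent.KO7ce1ea2.k9; funext a0 a1 a2 a3; refine (_root_.Cfsg.Agent.KO7ce1ea2.e2 (fun a3 => @List.map.{ku0, ku1} a0 a1 a2 a3) ?_ (fun c0 c1 => ?_) a3 :) <;> (rfl')
private noncomputable def _root_.Cfsg.Agent.KO7ce1ea2.k10 : type_of% @Int.mul := @(fun x0 x1 => @Int.rec.{1} @(fun x2 => ℤ) @(fun x2 => @Int.rec.{1} @(fun x3 => ℤ) @(fun x3 => @Int.ofNat (@Nat.mul @x2 @x3)) @(fun x3 => @Nat.rec.{1} @(fun x4 => ℤ) (@Int.ofNat (nat_lit 0)) @(fun x4 x5 => @Int.negSucc @x4) (@Nat.mul @x2 (@Nat.succ @x3))) @x1) @(fun x2 => @Int.rec.{1} @(fun x3 => ℤ) @(fun x3 => @Nat.rec.{1} @(fun x4 => ℤ) (@Int.ofNat (nat_lit 0)) @(fun x4 x5 => @Int.negSucc @x4) (@Nat.mul (@Nat.succ @x2) @x3)) @(fun x3 => @Int.ofNat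 (@Nat.mul (@Nat.succ @x2) (@Nat.succ @x3))) @x1) @x0)
private theorem _root_.Cfsg.Agent.KO7ce1ea2.e10 : @Int.mul = @_root_.Cfsg.Agent.KO7ce1ea2.k10 := by delta _root_.Cfsg.Agent.KO7ce1ea2.k10; rfl'
private noncomputable def _root_.Cfsg.Agent.KO7ce1ea2.k11.{ku0} : type_of% @List.elem.{ku0} := @(fun x0 x1 x2 x3 => @List.rec.{1, ku0} @x0 @(fun x4 => @Bool) @Bool.false @(fun x4 x5 x6 => @Bool.rec.{1} @(fun x7 => @Bool) @x6 @Bool.true (@BEq.beq.{ku0} _ @x1 @x2 @x4)) @x3)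
private theorem _root_.Cfsg.Agent.KO7ce1ea2.e11.{ku0} : @List.elem.{ku0} = @_root_.Cfsg.Agent.KO7ce1ea2.k11.{ku0} := by delta _root_.Cfsg.Agent.KO7ce1ea2.k11; funext a0 a1 a2 a3; refine (_root_.Cfsg.Agent.KO7ce1ea2.e2 (fun a3 => @List.elem.{ku0} a0 a1 a2 a3) ?_ (fun c0 c1 => ?_) a3 :) <;> (rfl')
private noncomputable def _root_.Cfsg.Agent.KO7ce1ea2.k13.{ku0} : type_of% @List.beq.{ku0} := @(fun x0 x1 x2 x3 => @List.rec.{(ku0+1), ku0} @x0 @(fun x4 => (@List.{ku0} @x0) → @Bool) @(fun x4 => @List.rec.{1, ku0} @x0 @(fun x5 => @Bool) @Bool.true @(fun x5 x6 x7 => @Bool.false) @x4) @(fun x4 x5 x6 x7 => @List.rec.{1, ku0} @x0 @(fun x8 => @Bool) @Bool.false @(fun x8 x9 x10 => @Bool.rec.{1} @(fun x11 => @Bool) @Bool.false (@x6 @x9) (@BEq.beq.{ku0} _ @x1 @x4 @x8)) @x7) @x2 @x3)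
private theorem _root_.Cfsg.Agent.KO7ce1ea2.e13.{ku0} : @List.beq.{ku0} = @_root_.Cfsg.Agent.KO7ce1ea2.k13.{ku0} := by delta _root_.Cfsg.Agent.KO7ce1ea2.k13; funext a0 a1 a2 a3; refine (congrFun (_root_.Cfsg.Agent.KO7ce1ea2.e2 (fun a2 a3 => @List.beq.{ku0} a0 a1 a2 a3) ?_ (fun c0 c1 => ?_) a2) a3 :) <;> [(funext b0; (cases b0 with | @nil  => (rfl') | @cons b0_0 b0_1 => (rfl'))); (funext b0; (cases b0 with | @nil  => (rfl') | @cons b0_0 b0_1 => (rfl')))]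
private noncomputable def _root_.Cfsg.Agent.KO7ce1ea2.k14 : type_of% @Nat.decEq := @(fun x0 x1 => @Bool.rec.{1} @(fun x2 => (@Eq.{1} _ (@Nat.beq @x0 @x1) @x2) → @Decidable (@Eq.{1} _ @x0 @x1)) @(fun x2 => @Decidable.isFalse _ (@Nat.ne_of_beq_eq_false _ _ @x2)) @(fun x2 => @Decidable.isTrue _ (@Nat.eq_of_beq_eq_true _ _ @x2)) (@Nat.beq @x0 @x1) (@Eq.refl.{1} _ (@Nat.beq @x0 @x1)))
private theorem _root_.Cfsg.Agent.KO7ce1ea2.e14 : @Nat.decEq = @_root_.Cfsg.Agent.KO7ce1ea2.k14 := by delta _root_.Cfsg.Agent.KO7ce1ea2.k14; rfl'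
private noncomputable def _root_.Cfsg.Agent.KO7ce1ea2.k15 : type_of% @Int.decEq := @(fun x0 x1 => @Int.rec.{1} @(fun x2 => @Decidable (@Eq.{1} _ @x2 @x1)) @(fun x2 => @Int.rec.{1} @(fun x3 => @Decidable (@Eq.{1} _ (@Int.ofNat @x2) @x3)) @(fun x3 => @Decidable.rec.{1} _ @(fun x4 => @Decidable (@Eq.{1} _ (@Int.ofNat @x2) (@Int.ofNat @x3))) @(fun x4 => @Decidable.isFalse _ (@Int.decEq._proof_2 @x2 @x3 @x4)) @(fun x4 => @Decidable.isTrue _ (@Int.decEq._proof_1 @x2 @x3 @x4)) (@Cfsg.Agent.KO7ce1ea2.k14 @x2 @x3)) @(fun x3 => @Decidable.isFalse _ (@Int.decEq._proof_3 @x2 @x3)) @x1) @(fun x2 => @Int.rec.{1} @(fun x3 => @Decidable (@Eq.{1} _ (@Int.negSucc @x2) @x3)) @(fun x3 => @Decidable.isFalse _ (@Int.decEq._proof_4 @x2 @x3)) @(fun x3 => @Decidable.rec.{1} _ @(fun x4 => @Decidable (@Eq.{1} _ (@Int.negSucc @x2) (@Int.negSucc @x3))) @(fun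 x4 => @Decidable.isFalse _ (@Int.decEq._proof_6 @x2 @x3 @x4)) @(fun x4 => @Decidable.isTrue _ (@Int.decEq._proof_5 @x2 @x3 @x4)) (@Cfsg.Agent.KO7ce1ea2.k14 @x2 @x3)) @x1) @x0)
private theorem _root_.Cfsg.Agent.KO7ce1ea2.e15 : @Int.decEq = @_root_.Cfsg.Agent.KO7ce1ea2.k15 := by delta _root_.Cfsg.Agent.KO7ce1ea2.k15; rewrite [← Cfsg.Agent.KO7ce1ea2.e14]; rfl'
private noncomputable def _root_.Cfsg.Agent.KO7ce1ea2.k16 : (by first | exact type_of% @Cfsg.Agent.DL.Rows.Cert.Ty.memL | exact Unit : Sort _) := by first | (refine @Subtype.val _ (fun g => @Cfsg.Agent.DL.Rows.Cert.Ty.memL = @g) (@Subtype.mk _ _ (@(fun x0 x1 => @Cfsg.Agent.KO7ce1ea2.k8 _ @x1 @(fun x2 => @Bool.rec.{1} @(fun x3 => @Bool) (@Cfsg.Agent.KO7ce1ea2.k8 _ (@Cfsg.Agent.KO7ce1ea2.k9.{0, 0} _ _ @(fun x3 => @Cfsg.Agent.KO7ce1ea2.k10 (@Nat.rec.{1} @(fun x4 => ℤ) (@Int.ofNat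 (nat_lit 0)) @(fun x4 x5 => @Int.negSucc @x4) (nat_lit 1)) @x3) @x2) @(fun x3 => @Cfsg.Agent.KO7ce1ea2.k11.{0} _ (@BEq.mk.{0} _ (@Cfsg.Agent.KO7ce1ea2.k13.{0} _ (@BEq.mk.{0} _ @(fun x4 x5 => @Decidable.rec.{1} _ @(fun x6 => @Bool) @(fun x6 => @Bool.false) @(fun x6 => @Bool.true) (@Cfsg.Agent.KO7ce1ea2.k15 @x4 @x5))))) @x3 (@Cfsg.Agent.DL.Rows.Cert.Ty.L @x0))) @Bool.true (@Cfsg.Agent.KO7ce1ea2.k11.{0} _ (@BEq.mk.{0} _ (@Cfsg.Agent.KO7ce1ea2.k13.{0} _ (@BEq.mk.{0} _ @(fun x3 x4 => @Decidable.rec.{1} _ @(fun x5 => @Bool) @(fun x5 => @Bool.false) @(fun x5 => @Bool.true) (@Cfsg.Agent.KO7ce1ea2.k15 @x3 @x4))))) @x2 (@Cfsg.Agent.DL.Rows.Cert.Ty.L @x0))))) ?_); rewrite [← Cfsg.Agent.KO7ce1ea2.e15, ← Cfsg.Agent.KO7ce1ea2.e13.{0}, ← Cfsg.Agent.KO7ce1ea2.e11.{0}, ← Cfsg.Agent.KO7ce1ea2.e10, ← Cfsg.Agent.KO7ce1ea2.e9.{0, 0}, ← Cfsg.Agent.KO7ce1ea2.e8];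 (try delta Cfsg.Agent.DL.Rows.Cert.Ty.memL Cfsg.Agent.DL.Rows.Cert.psmul); (try generalize @Cfsg.Agent.DL.Rows.Cert.forceL = g0); rfl') | exact @Cfsg.Agent.DL.Rows.Cert.Ty.memL | exact ()
private theorem _root_.Cfsg.Agent.KO7ce1ea2.e16 : (by first | exact @Cfsg.Agent.DL.Rows.Cert.Ty.memL = @_root_.Cfsg.Agent.KO7ce1ea2.k16 | exact True : Prop) := by first | (delta _root_.Cfsg.Agent.KO7ce1ea2.k16; exact @Subtype.property _ (fun g => @Cfsg.Agent.DL.Rows.Cert.Ty.memL = @g) _) | rfl | trivial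
private noncomputable def _root_.Cfsg.Agent.KO7ce1ea2.k17 : type_of% @Int.add := @(fun x0 x1 => @Int.rec.{1} @(fun x2 => ℤ) @(fun x2 => @Int.rec.{1} @(fun x3 => ℤ) @(fun x3 => @Int.ofNat (@Nat.add @x2 @x3)) @(fun x3 => @Nat.rec.{1} @(fun x4 => ℤ) (@Int.ofNat (@Nat.sub @x2 (@Nat.succ @x3))) @(fun x4 x5 => @Int.negSucc @x4) (@Nat.sub (@Nat.succ @x3) @x2)) @x1) @(fun x2 => @Int.rec.{1} @(fun x3 => ℤ) @(fun x3 => @Nat.rec.{1} @(fun x4 => ℤ) (@Int.ofNat (@Nat.sub @x3 (@Nat.succ @x2))) @(fun x4 x5 => @Int.negSucc @x4) (@Nat.sub (@Nat.succ @x2) @x3)) @(fun x3 => @Int.negSucc (@Nat.succ (@Nat.add @x2 @x3))) @x1) @x0)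
private theorem _root_.Cfsg.Agent.KO7ce1ea2.e17 : @Int.add = @_root_.Cfsg.Agent.KO7ce1ea2.k17 := by delta _root_.Cfsg.Agent.KO7ce1ea2.k17; rfl'
private noncomputable def _root_.Cfsg.Agent.KO7ce1ea2.k19.{ku0} : type_of% @List.get?Internal.{ku0} := @(fun x0 x1 x2 => @List.rec.{(ku0+1), ku0} @x0 @(fun x3 => ℕ → @Option.{ku0} @x0) @(fun x3 => @Option.none.{ku0} _) @(fun x3 x4 x5 x6 => @Nat.rec.{(ku0+1)} @(fun x7 => @Option.{ku0} @x0) (@Option.some.{ku0} _ @x3) @(fun x7 x8 => @x5 @x7) @x6) @x1 @x2)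
private theorem _root_.Cfsg.Agent.KO7ce1ea2.e19.{ku0} : @List.get?Internal.{ku0} = @_root_.Cfsg.Agent.KO7ce1ea2.k19.{ku0} := by delta _root_.Cfsg.Agent.KO7ce1ea2.k19; funext a0 a1 a2; refine (congrFun (_root_.Cfsg.Agent.KO7ce1ea2.e2 (fun a1 a2 => @List.get?Internal.{ku0} a0 a1 a2) ?_ (fun c0 c1 => ?_) a1) a2 :) <;> [(funext b0; (rfl')); (funext b0; (cases b0 with | @zero  => (rfl') | @succ b0_0 => (rfl')))]
private noncomputable def _root_.Cfsg.Agent.KO7ce1ea2.k20 : (by first | exact type_of% @Cfsg.Agent.DL.Rows.Cert.Ty.reflF | exact Unit : Sort _) := by first | (refine @Subtype.val _ (fun g => @Cfsg.Agent.DL.Rows.Cert.Ty.reflF = @g) (@Subtype.mk _ _ (@(fun x0 x1 x2 => @Cfsg.Agent.KO7ce1ea2.k9.{0, 0} _ _ @(fun x3 => @Cfsg.Agent.KO7ce1ea2.k17 (@Option.rec.{1, 0} ℤ @(fun x4 => ℤ) (@Int.ofNat (nat_lit 0)) @(fun x4 => @x4) (@Cfsg.Agent.KO7ce1ea2.k19.{0}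 _ @x2 @x3)) (@Int.rec.{1} @(fun x4 => ℤ) @(fun x4 => @Nat.rec.{1} @(fun x5 => ℤ) (@Int.ofNat (nat_lit 0)) @(fun x5 x6 => @Int.negSucc @x5) @x4) @(fun x4 => @Int.ofNat (@Nat.succ @x4)) (@Cfsg.Agent.KO7ce1ea2.k10 (@Option.rec.{1, 0} ℤ @(fun x4 => ℤ) (@Int.ofNat (nat_lit 0)) @(fun x4 => @x4) (@Cfsg.Agent.KO7ce1ea2.k19.{0} _ @x2 @x1)) (@Option.rec.{1, 0} ℤ @(fun x4 => ℤ) (@Int.ofNat (nat_lit 0)) @(fun x4 => @x4) (@Cfsg.Agent.KO7ce1ea2.k19.{0} _ (@Option.rec.{1, 0} (@List.{0} ℤ) @(fun x4 => @List.{0} ℤ) [] @(fun x4 => @x4) (@Cfsg.Agent.KO7ce1ea2.k19.{0} _ (@Cfsg.Agent.DL.Rows.Cert.Ty.Am @x0) @x1)) @x3))))) (@Cfsg.Agent.KO7ce1ea2.k5 (@Cfsg.Agent.DL.Rows.Cert.Ty.l @x0) []))) ?_); rewrite [← Cfsg.Agent.KO7ce1ea2.e5, ← Cfsg.Agent.KO7ce1ea2.e10, ← Cfsg.Agent.KO7ce1ea2.e19.{0}, ← Cfsg.Agent.KO7ce1ea2.e17, ← Cfsg.Agent.KO7ce1ea2.e9.{0, 0}];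 rfl') | exact @Cfsg.Agent.DL.Rows.Cert.Ty.reflF | exact ()
private theorem _root_.Cfsg.Agent.KO7ce1ea2.e20 : (by first | exact @Cfsg.Agent.DL.Rows.Cert.Ty.reflF = @_root_.Cfsg.Agent.KO7ce1ea2.k20 | exact True : Prop) := by first | (delta _root_.Cfsg.Agent.KO7ce1ea2.k20; exact @Subtype.property _ (fun g => @Cfsg.Agent.DL.Rows.Cert.Ty.reflF = @g) _) | rfl | trivial
private noncomputable def _root_.Cfsg.Agent.KO7ce1ea2.k21.{ku0} : type_of% @List.length.{ku0} := @(fun x0 x1 => @List.rec.{1, ku0} @x0 @(fun x2 => ℕ) (nat_lit 0) @(fun x2 x3 x4 => @Nat.add @x4 (nat_lit 1)) @x1)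
private theorem _root_.Cfsg.Agent.KO7ce1ea2.e21.{ku0} : @List.length.{ku0} = @_root_.Cfsg.Agent.KO7ce1ea2.k21.{ku0} := by delta _root_.Cfsg.Agent.KO7ce1ea2.k21; funext a0 a1; refine (_root_.Cfsg.Agent.KO7ce1ea2.e2 (fun a1 => @List.length.{ku0} a0 a1) ?_ (fun c0 c1 => ?_) a1 :) <;> (rfl')
private noncomputable def _root_.Cfsg.Agent.KO7ce1ea2.k22 : (by first | exact type_of% @Cfsg.Agent.DL.Rows.Cert.Ty.ok | exact Unit : Sort _) := by first | (refine @Subtype.val _ (fun g => @Cfsg.Agent.DL.Rows.Cert.Ty.ok = @g) (@Subtype.mk _ _ (@(fun x0 => @Bool.rec.{1} @(fun x1 => @Bool) @Bool.false (@Cfsg.Agent.KO7ce1ea2.k3.{0} _ (@Cfsg.Agent.DL.Rows.Cert.Ty.L @x0) @(fun x1 => @Bool.rec.{1} @(fun x2 => @Bool) @Bool.false (@Cfsg.Agent.KO7ce1ea2.k3.{0} _ (@Cfsg.Agent.KO7ce1ea2.k5 (@Cfsg.Agent.DL.Rows.Cert.Ty.l @x0) []) @(fun x2 => @Cfsg.Agent.KO7ce1ea2.k16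 @x0 (@Cfsg.Agent.KO7ce1ea2.k20 @x0 @x2 @x1))) (@Cfsg.Agent.KO7ce1ea2.k0.{1} @Bool (@Cfsg.Agent.KO7ce1ea2.k21.{0} _ @x1) (@Cfsg.Agent.DL.Rows.Cert.Ty.l @x0) @Bool.false @Bool.true))) (@Cfsg.Agent.KO7ce1ea2.k3.{0} _ (@Cfsg.Agent.KO7ce1ea2.k5 (@Cfsg.Agent.DL.Rows.Cert.Ty.l @x0) []) @(fun x1 => @Bool.rec.{1} @(fun x2 => @Bool) @Bool.false (@Cfsg.Agent.KO7ce1ea2.k1.{1} @Bool (@Nat.succ (@Option.rec.{1, 0} ℕ @(fun x2 => ℕ) (nat_lit 0) @(fun x2 => @x2) (@Cfsg.Agent.KO7ce1ea2.k19.{0} _ (@Cfsg.Agent.DL.Rows.Cert.Ty.pi @x0) @x1))) (@Cfsg.Agent.DL.Rows.Cert.Ty.l @x0) @Bool.false @Bool.true) (@Bool.rec.{1} @(fun x2 => @Bool) @Bool.false (@Cfsg.Agent.KO7ce1ea2.k11.{0} _ (@BEq.mk.{0} _ (@Cfsg.Agent.KO7ce1ea2.k13.{0} _ (@BEq.mk.{0} _ @(fun x2 x3 => @Decidable.rec.{1} _ @(fun x4 => @Bool) @(fun x4 => @Bool.false) @(fun x4 => @Bool.true) (@Cfsg.Agent.KO7ce1ea2.k15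 @x2 @x3))))) (@Option.rec.{1, 0} (@List.{0} ℤ) @(fun x2 => @List.{0} ℤ) [] @(fun x2 => @x2) (@Cfsg.Agent.KO7ce1ea2.k19.{0} _ (@Cfsg.Agent.DL.Rows.Cert.Ty.Am @x0) @x1)) (@Cfsg.Agent.DL.Rows.Cert.Ty.L @x0)) (@Cfsg.Agent.KO7ce1ea2.k0.{1} @Bool (@Cfsg.Agent.KO7ce1ea2.k21.{0} _ (@Option.rec.{1, 0} (@List.{0} ℤ) @(fun x2 => @List.{0} ℤ) [] @(fun x2 => @x2) (@Cfsg.Agent.KO7ce1ea2.k19.{0} _ (@Cfsg.Agent.DL.Rows.Cert.Ty.Am @x0) @x1))) (@Cfsg.Agent.DL.Rows.Cert.Ty.l @x0) @Bool.false @Bool.true)))))) ?_); rewrite [← Cfsg.Agent.KO7ce1ea2.e15, ← Cfsg.Agent.KO7ce1ea2.e13.{0}, ← Cfsg.Agent.KO7ce1ea2.e11.{0}, ← Cfsg.Agent.KO7ce1ea2.e19.{0}, ← Cfsg.Agent.KO7ce1ea2.e1.{1}, ← Cfsg.Agent.KO7ce1ea2.e21.{0}, ← Cfsg.Agent.KO7ce1ea2.e0.{1}, ← Cfsg.Agent.KO7ce1ea2.e20, ← Cfsg.Agent.KO7ce1ea2.e16, ← Cfsg.Agent.KO7ce1ea2.e5, ← Cfsg.Agent.KO7ce1ea2.e3.{0}];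 (try delta Cfsg.Agent.DL.Rows.Cert.Ty.ok Cfsg.Agent.DL.Rows.Cert.Ty.row); (try generalize @Cfsg.Agent.DL.Rows.Cert.Ty.memL = g0); (try generalize @Cfsg.Agent.DL.Rows.Cert.Ty.reflF = g1); rfl') | exact @Cfsg.Agent.DL.Rows.Cert.Ty.ok | exact ()
private theorem _root_.Cfsg.Agent.KO7ce1ea2.e22 : (by first | exact @Cfsg.Agent.DL.Rows.Cert.Ty.ok = @_root_.Cfsg.Agent.KO7ce1ea2.k22 | exact True : Prop) := by first | (delta _root_.Cfsg.Agent.KO7ce1ea2.k22; exact @Subtype.property _ (fun g => @Cfsg.Agent.DL.Rows.Cert.Ty.ok = @g) _) | rfl | trivial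

theorem okE6 : tyE6.ok = true := by (first | (rewrite [Cfsg.Agent.KO7ce1ea2.e22]; decide +kernel) | decide +kernel)

def torE6a : Tor where
  wd := [5, 2, 0, 3, 2, 1, 3, 4]
  Gt := [0, 0, 1, 0, 0, 1]
  gt := [0, 0, 1, 0, 0, 1]
  e := [1, 0, 0, 0, 0, 0]
  xs :=
    (beta% delta% lq26b1ef3c63 fun a b _ =>
 (a (a 1<|a 0<|a 0<|a 0<|a 0<|a 0<|b)<|a (a 0<|a 0<|a 0<|a 1<|a 0<|a 0<|b)<|a (a 0<|a 0<|a 1<|a 1<|a 1<|a 1<|b)<|a (a 1<|a 1<|a 1<|a 1<|a 1<|a 0<|b)<|a (a 0<|a 0<|a (-1)<|a 0<|a 0<|a 0<|b)<|a (a 0<|a (-1)<|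
 a 0<|a 0<|a 0<|a 0<|b)<|b))
  Us :=
    (let yq8 : List (List ℤ) := (let yq9 : List (List ℤ) := (let yq10 : List (List ℤ) := %[[1, 1, -2, 2, -1, -1], [-2, 1, -2, -1, -1,
    -1], [0, -1, -2, 0, -2, -1], [2, -1, -1, 1, -2, 1], [1, -2, 1, -1, -1, -1] | []];
  %[[1, 0, -1, -1, 0, -2], [2, -1,
    -1, 1, -2, -2], [-1, 2, -1, -2, 1, -2], [-1, -1, -1, -2, 1, -2] | yq10]);
  (let yq11 : type_of% yq9 := %[[1, 1, -2, -1, -1, -1], [1, -2, -2, -1,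
    -1, -1], [1, 1, -2, -1, -1, -4], [1, -1, 0, -1, -2, 0], [0, 1, -1, 0, -1, -2] | yq9];
  %[[-1, -4, -1, -2, -2, 1], [-1,
    -1, -1, -2, -2, -2], [-1, -1, -4, -2, -2, -2], [1, -2, -2, -1, -4, -1] | yq11]));
  (let yq12 : type_of% yq8 := (let yq13 : type_of% yq8 := %[[-1, -2, 0, -2, -1, 0], [0, -2, -1, 0,
    -1, 1], [-1, 0, -2, -2, 0, -1], [2, -1, 2, 1, -2, 1], [-1, -1, -1, -2, -2, 1] | yq8];
  %[[1, -2, 1, -1, -1,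
    2], [-2, -2, -2, -1, -1, -1], [2, 1, 0, 1, -1, 0], [2, 0, 1, 1, 0, -1] | yq13]);
  (let yq14 : type_of% yq12 := %[[-1, -1, -1, 1, -2,
    1], [2, 2, -1, 1, 1, -2], [1, 1, 1, 2, -1, -1], [1, 1, 1, -1, -1, -1], [4, 1, 1, 2, -1, -1] | yq12];
  %[[2, 2, -1, 1, -2, -2], [2, 2, 2, 1, 1, -2], [2, 2, 2, 4, 1, 1], [2, -1, -1, -2, -2, -2] | yq14])))
  B := [2, 3, 5, 7]
  c := 3
  q₀ := 2

private noncomputable def _root_.Cfsg.Agent.KO7ce1ea2.k23.{ku0} : type_of% @List.any.{ku0} := @(fun x0 x1 x2 => @List.rec.{(ku0+1), ku0} @x0 @(fun x3 => (@x0 → @Bool) → @Bool) @(fun x3 => @Bool.false) @(fun x3 x4 x5 x6 => @Bool.rec.{1} @(fun x7 => @Bool) (@x5 @x6) @Bool.true (@x6 @x3)) @x1 @x2)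
private theorem _root_.Cfsg.Agent.KO7ce1ea2.e23.{ku0} : @List.any.{ku0} = @_root_.Cfsg.Agent.KO7ce1ea2.k23.{ku0} := by delta _root_.Cfsg.Agent.KO7ce1ea2.k23; funext a0 a1 a2; refine (congrFun (_root_.Cfsg.Agent.KO7ce1ea2.e2 (fun a1 a2 => @List.any.{ku0} a0 a1 a2) ?_ (fun c0 c1 => ?_) a1) a2 :) <;> (rfl')
private noncomputable def _root_.Cfsg.Agent.KO7ce1ea2.k24 : (by first | exact type_of% @Cfsg.Agent.DL.Rows.Cert.padd | exact Unit : Sort _) := by first | (refine @Subtype.val _ (fun g => @Cfsg.Agent.DL.Rows.Cert.padd = @g) (@Subtype.mk _ _ (@(fun x0 => @List.rec.{1, 0} ℤ @(fun x1 => (@List.{0} ℤ) → @List.{0} ℤ) @(fun x1 => @x1) @(fun x1 x2 x3 x4 => @List.rec.{1, 0} ℤ @(fun x5 => @List.{0} ℤ) (@x1 :: @x2) @(fun x5 x6 x7 => (@Cfsg.Agent.KO7ce1ea2.k17 @x1 @x5) :: (@x3 @x6)) @x4) @x0)) ?_); rewrite [← Cfsg.Agent.KO7ce1ea2.e17]; rfl')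 | exact @Cfsg.Agent.DL.Rows.Cert.padd | exact ()
private theorem _root_.Cfsg.Agent.KO7ce1ea2.e24 : (by first | exact @Cfsg.Agent.DL.Rows.Cert.padd = @_root_.Cfsg.Agent.KO7ce1ea2.k24 | exact True : Prop) := by first | (delta _root_.Cfsg.Agent.KO7ce1ea2.k24; exact @Subtype.property _ (fun g => @Cfsg.Agent.DL.Rows.Cert.padd = @g) _) | rfl | trivial
private noncomputable def _root_.Cfsg.Agent.KO7ce1ea2.k25 : (by first | exact type_of% @Cfsg.Agent.DL.Rows.Cert.pmul | exact Unit : Sort _) := by first | (refine @Subtype.val _ (fun g => @Cfsg.Agent.DL.Rows.Cert.pmul = @g) (@Subtype.mk _ _ (@(fun x0 x1 => @List.rec.{1, 0} ℤ @(fun x2 => @List.{0} ℤ) [] @(fun x2 x3 x4 => @Cfsg.Agent.KO7ce1ea2.k24 (@Cfsg.Agent.KO7ce1ea2.k9.{0, 0} _ _ @(fun x5 => @Cfsg.Agent.KO7ce1ea2.k10 @x2 @x5) @x1) ((@Int.ofNat (nat_lit 0)) :: @x4)) @x0)) ?_); rewrite [←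 Cfsg.Agent.KO7ce1ea2.e10, ← Cfsg.Agent.KO7ce1ea2.e9.{0, 0}, ← Cfsg.Agent.KO7ce1ea2.e24]; (try delta Cfsg.Agent.DL.Rows.Cert.pmul Cfsg.Agent.DL.Rows.Cert.psmul); (try generalize @Cfsg.Agent.DL.Rows.Cert.padd = g0); rfl') | exact @Cfsg.Agent.DL.Rows.Cert.pmul | exact ()
private theorem _root_.Cfsg.Agent.KO7ce1ea2.e25 : (by first | exact @Cfsg.Agent.DL.Rows.Cert.pmul = @_root_.Cfsg.Agent.KO7ce1ea2.k25 | exact True : Prop) := by first | (delta _root_.Cfsg.Agent.KO7ce1ea2.k25; exact @Subtype.property _ (fun g => @Cfsg.Agent.DL.Rows.Cert.pmul = @g) _) | rfl | trivial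
private noncomputable def _root_.Cfsg.Agent.KO7ce1ea2.k26 : (by first | exact type_of% @Cfsg.Agent.DL.Rows.Cert.pshift | exact Unit : Sort _) := by first | (refine @Subtype.val _ (fun g => @Cfsg.Agent.DL.Rows.Cert.pshift = @g) (@Subtype.mk _ _ (@(fun x0 x1 => @List.rec.{1, 0} ℤ @(fun x2 => @List.{0} ℤ) [] @(fun x2 x3 x4 => @Cfsg.Agent.KO7ce1ea2.k8 _ (@Cfsg.Agent.KO7ce1ea2.k24 (@x2 :: []) (@Cfsg.Agent.KO7ce1ea2.k25 (@x0 :: ((@Int.ofNat (nat_lit 1)) :: [])) @x4)) (@id.{1} _)) @x1)) ?_); rewrite [← Cfsg.Agent.KO7ce1ea2.e25, ← Cfsg.Agent.KO7ce1ea2.e24, ← Cfsg.Agent.KO7ce1ea2.e8]; (try delta Cfsg.Agent.DL.Rows.Cert.pshift); (try generalize @Cfsg.Agent.DL.Rows.Cert.forceL = g0); (try generalize @Cfsg.Agent.DL.Rows.Cert.padd = g1); (try generalize @Cfsg.Agent.DL.Rows.Cert.pmul = g2); rfl') | exact @Cfsg.Agent.DL.Rows.Cert.pshift | exact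 ()
private theorem _root_.Cfsg.Agent.KO7ce1ea2.e26 : (by first | exact @Cfsg.Agent.DL.Rows.Cert.pshift = @_root_.Cfsg.Agent.KO7ce1ea2.k26 | exact True : Prop) := by first | (delta _root_.Cfsg.Agent.KO7ce1ea2.k26; exact @Subtype.property _ (fun g => @Cfsg.Agent.DL.Rows.Cert.pshift = @g) _) | rfl | trivial
private noncomputable def _root_.Cfsg.Agent.KO7ce1ea2.k27.{ku0, ku1} : type_of% @List.foldr.{ku0, ku1} := @(fun x0 x1 x2 x3 x4 => @List.rec.{(ku1+1), ku0} @x0 @(fun x5 => @x1) @x3 @(fun x5 x6 x7 => @x2 @x5 @x7) @x4)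
private theorem _root_.Cfsg.Agent.KO7ce1ea2.e27.{ku0, ku1} : @List.foldr.{ku0, ku1} = @_root_.Cfsg.Agent.KO7ce1ea2.k27.{ku0, ku1} := by delta _root_.Cfsg.Agent.KO7ce1ea2.k27; funext a0 a1 a2 a3 a4; refine (_root_.Cfsg.Agent.KO7ce1ea2.e2 (fun a4 => @List.foldr.{ku0, ku1} a0 a1 a2 a3 a4) ?_ (fun c0 c1 => ?_) a4 :) <;> (rfl')
private noncomputable def _root_.Cfsg.Agent.KO7ce1ea2.k28.{ku0} : type_of% @List.append.{ku0} := @(fun x0 x1 x2 => @List.rec.{(ku0+1), ku0} @x0 @(fun x3 => (@List.{ku0} @x0) → @List.{ku0} @x0) @(fun x3 => @x3) @(fun x3 x4 x5 x6 => @x3 :: (@x5 @x6)) @x1 @x2)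
private theorem _root_.Cfsg.Agent.KO7ce1ea2.e28.{ku0} : @List.append.{ku0} = @_root_.Cfsg.Agent.KO7ce1ea2.k28.{ku0} := by delta _root_.Cfsg.Agent.KO7ce1ea2.k28; funext a0 a1 a2; refine (congrFun (_root_.Cfsg.Agent.KO7ce1ea2.e2 (fun a1 a2 => @List.append.{ku0} a0 a1 a2) ?_ (fun c0 c1 => ?_) a1) a2 :) <;> (rfl')
private noncomputable def _root_.Cfsg.Agent.KO7ce1ea2.k29.{ku0} : type_of% @List.flatten.{ku0} := @(fun x0 x1 => @List.rec.{(ku0+1), ku0} (@List.{ku0} @x0) @(fun x2 => @List.{ku0} @x0) [] @(fun x2 x3 x4 => @Cfsg.Agent.KO7ce1ea2.k28.{ku0} _ @x2 @x4) @x1)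
private theorem _root_.Cfsg.Agent.KO7ce1ea2.e29.{ku0} : @List.flatten.{ku0} = @_root_.Cfsg.Agent.KO7ce1ea2.k29.{ku0} := by delta _root_.Cfsg.Agent.KO7ce1ea2.k29; rewrite [← Cfsg.Agent.KO7ce1ea2.e28.{ku0}]; funext a0 a1; refine (_root_.Cfsg.Agent.KO7ce1ea2.e2 (fun a1 => @List.flatten.{ku0} a0 a1) ?_ (fun c0 c1 => ?_) a1 :) <;> (rfl')
private noncomputable def _root_.Cfsg.Agent.KO7ce1ea2.k30 : (by first | exact type_of% @Cfsg.Agent.DL.Rows.Cert.peval | exact Unit : Sort _) := by first | (refine @Subtype.val _ (fun g => @Cfsg.Agent.DL.Rows.Cert.peval = @g) (@Subtype.mk _ _ (@(fun x0 x1 x2 x3 => @Cfsg.Agent.KO7ce1ea2.k27.{0, 0} _ _ @(fun x4 x5 => @Add.add.{0} _ (@AddSemigroup.toAdd.{0} _ (@AddMonoid.toAddSemigroup.{0} _ (@AddCommMonoid.toAddMonoid.{0} _ (@Semiring.toAddCommMonoid.{0} _ (@Ring.toSemiring.{0} _ (@CommRing.toRing.{0} _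 @x1)))))) @x4 (@Mul.mul.{0} _ (@Semigroup.toMul.{0} _ (@Monoid.toSemigroup.{0} _ (@Semiring.toMonoid.{0} _ (@Ring.toSemiring.{0} _ (@CommRing.toRing.{0} _ @x1))))) @x3 @x5)) (@Zero.zero.{0} _ (@AddMonoid.toZero.{0} _ (@AddCommMonoid.toAddMonoid.{0} _ (@Semiring.toAddCommMonoid.{0} _ (@Ring.toSemiring.{0} _ (@CommRing.toRing.{0} _ @x1)))))) (@Cfsg.Agent.KO7ce1ea2.k29.{0} _ (@Cfsg.Agent.KO7ce1ea2.k9.{0, 0} _ _ @(fun x4 => (@IntCast.intCast.{0} _ (@Ring.toIntCast.{0} _ (@CommRing.toRing.{0} _ @x1)) @x4) :: []) @x2)))) ?_); rewrite [← Cfsg.Agent.KO7ce1ea2.e9.{0, 0}, ← Cfsg.Agent.KO7ce1ea2.e29.{0}, ← Cfsg.Agent.KO7ce1ea2.e27.{0, 0}]; rfl') | exact @Cfsg.Agent.DL.Rows.Cert.peval | exact ()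
private theorem _root_.Cfsg.Agent.KO7ce1ea2.e30 : (by first | exact @Cfsg.Agent.DL.Rows.Cert.peval = @_root_.Cfsg.Agent.KO7ce1ea2.k30 | exact True : Prop) := by first | (delta _root_.Cfsg.Agent.KO7ce1ea2.k30; exact @Subtype.property _ (fun g => @Cfsg.Agent.DL.Rows.Cert.peval = @g) _) | rfl | trivial
private noncomputable def _root_.Cfsg.Agent.KO7ce1ea2.k31 : (by first | exact type_of% @Cfsg.Agent.DL.Rows.Cert.resOK | exact Unit : Sort _) := by first | (refine @Subtype.val _ (fun g => @Cfsg.Agent.DL.Rows.Cert.resOK = @g) (@Subtype.mk _ _ (@(fun x0 x1 => @Cfsg.Agent.KO7ce1ea2.k3.{0} _ (@Cfsg.Agent.KO7ce1ea2.k5 @x1 []) @(fun x2 => @Bool.rec.{1} @(fun x3 => @Bool) @Bool.true @Bool.false (@Decidable.rec.{1} _ @(fun x3 => @Bool) @(fun x3 => @Bool.false) @(fun x3 => @Bool.true) (@Cfsg.Agent.KO7ce1ea2.k15 (@Int.rec.{1} @(fun x3 => ℤ) @(fun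 x3 => @Int.ofNat (@Nat.mod @x3 @x1)) @(fun x3 => @Nat.rec.{1} @(fun x4 => ℤ) (@Int.ofNat (@Nat.sub @x1 (@Nat.succ (@Nat.mod @x3 @x1)))) @(fun x4 x5 => @Int.negSucc @x4) (@Nat.sub (@Nat.succ (@Nat.mod @x3 @x1)) @x1)) (@Cfsg.Agent.KO7ce1ea2.k30 _ @Int.instCommRing @x0 (@Int.ofNat @x2))) (@Int.ofNat (nat_lit 0))))))) ?_); rewrite [← Cfsg.Agent.KO7ce1ea2.e30, ← Cfsg.Agent.KO7ce1ea2.e15, ← Cfsg.Agent.KO7ce1ea2.e5, ← Cfsg.Agent.KO7ce1ea2.e3.{0}]; (try delta Cfsg.Agent.DL.Rows.Cert.resOK); (try generalize @Cfsg.Agent.DL.Rows.Cert.peval = g0); rfl') | exact @Cfsg.Agent.DL.Rows.Cert.resOK | exact ()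
private theorem _root_.Cfsg.Agent.KO7ce1ea2.e31 : (by first | exact @Cfsg.Agent.DL.Rows.Cert.resOK = @_root_.Cfsg.Agent.KO7ce1ea2.k31 | exact True : Prop) := by first | (delta _root_.Cfsg.Agent.KO7ce1ea2.k31; exact @Subtype.property _ (fun g => @Cfsg.Agent.DL.Rows.Cert.resOK = @g) _) | rfl | trivial
private noncomputable def _root_.Cfsg.Agent.KO7ce1ea2.k32 : (by first | exact type_of% @Cfsg.Agent.DL.Rows.Cert.primeOK | exact Unit : Sort _) := by first | (refine @Subtype.val _ (fun g => @Cfsg.Agent.DL.Rows.Cert.primeOK = @g) (@Subtype.mk _ _ (@(fun x0 x1 x2 x3 => @Bool.rec.{1} @(fun x4 => @Bool) @Bool.false (@Cfsg.Agent.KO7ce1ea2.k1.{1} @Bool (@Nat.succ (nat_lit 0)) @x2 @Bool.false @Bool.true) (@Bool.rec.{1} @(fun x4 => @Bool) @Bool.false (@Decidable.rec.{1} _ @(fun x4 => @Bool) @(fun x4 => @Bool.false) @(fun x4 => @Bool.true) (@Int.rec.{1}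 @(fun x4 => @Decidable (@Int.NonNeg @x4)) @(fun x4 => @Decidable.isTrue _ (@Int.NonNeg.mk @x4)) @(fun x4 => @Decidable.isFalse _ (@Int.decNonneg._proof_1 @x4)) (@Int.add (@List.rec.{1, 0} ℤ @(fun x4 => ℤ) (@Int.ofNat (nat_lit 0)) @(fun x4 x5 x6 => @x4) (@Cfsg.Agent.KO7ce1ea2.k26 @x3 @x0)) (@Int.rec.{1} @(fun x4 => ℤ) @(fun x4 => @Nat.rec.{1} @(fun x5 => ℤ) (@Int.ofNat (nat_lit 0)) @(fun x5 x6 => @Int.negSucc @x5) @x4) @(fun x4 => @Int.ofNat (@Nat.succ @x4)) (@Int.add (@Int.ofNat @x2) (@Int.ofNat (nat_lit 1))))))) (@Bool.rec.{1} @(fun x4 => @Bool) @Bool.false (@Cfsg.Agent.KO7ce1ea2.k3.{0} _ (@Cfsg.Agent.KO7ce1ea2.k26 @x3 @x0) @(fun x4 => @Decidable.rec.{1} _ @(fun x5 => @Bool) @(fun x5 => @Bool.false) @(fun x5 => @Bool.true) (@Int.rec.{1} @(fun x5 => @Decidable (@Int.NonNeg @x5)) @(fun x5 => @Decidable.isTrue _ (@Int.NonNeg.mk @x5))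 @(fun x5 => @Decidable.isFalse _ (@Int.decNonneg._proof_1 @x5)) (@Int.add @x4 (@Int.ofNat (nat_lit 0)))))) (@Cfsg.Agent.KO7ce1ea2.k3.{0} _ @x1 @(fun x4 => @Cfsg.Agent.KO7ce1ea2.k0.{1} @Bool @x4 @x2 (@Cfsg.Agent.KO7ce1ea2.k31 @x0 @x4) (@Cfsg.Agent.KO7ce1ea2.k31 @x0 (@Nat.mul @x4 @x4)))))))) ?_); rewrite [← Cfsg.Agent.KO7ce1ea2.e31, ← Cfsg.Agent.KO7ce1ea2.e0.{1}, ← Cfsg.Agent.KO7ce1ea2.e3.{0}, ← Cfsg.Agent.KO7ce1ea2.e26, ← Cfsg.Agent.KO7ce1ea2.e1.{1}]; (try delta Cfsg.Agent.DL.Rows.Cert.primeOK); (try generalize @Cfsg.Agent.DL.Rows.Cert.pshift = g0); (try generalize @Cfsg.Agent.DL.Rows.Cert.resOK = g1); rfl') | exact @Cfsg.Agent.DL.Rows.Cert.primeOK | exact ()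
private theorem _root_.Cfsg.Agent.KO7ce1ea2.e32 : (by first | exact @Cfsg.Agent.DL.Rows.Cert.primeOK = @_root_.Cfsg.Agent.KO7ce1ea2.k32 | exact True : Prop) := by first | (delta _root_.Cfsg.Agent.KO7ce1ea2.k32; exact @Subtype.property _ (fun g => @Cfsg.Agent.DL.Rows.Cert.primeOK = @g) _) | rfl | trivial
private noncomputable def _root_.Cfsg.Agent.KO7ce1ea2.k34.{ku0, ku1, ku2} : type_of% @List.zipWith.{ku0, ku1, ku2} := @(fun x0 x1 x2 x3 x4 x5 => @List.rec.{(max (ku1+1) (ku2+1)), ku0} @x0 @(fun x6 => (@List.{ku1} @x1) → @List.{ku2} @x2) @(fun x6 => []) @(fun x6 x7 x8 x9 => @List.rec.{(ku2+1), ku1} @x1 @(fun x10 => @List.{ku2} @x2) [] @(fun x10 x11 x12 => (@x3 @x6 @x10) :: (@x8 @x11)) @x9) @x4 @x5)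
private theorem _root_.Cfsg.Agent.KO7ce1ea2.e34.{ku0, ku1, ku2} : @List.zipWith.{ku0, ku1, ku2} = @_root_.Cfsg.Agent.KO7ce1ea2.k34.{ku0, ku1, ku2} := by delta _root_.Cfsg.Agent.KO7ce1ea2.k34; funext a0 a1 a2 a3 a4 a5; refine (congrFun (_root_.Cfsg.Agent.KO7ce1ea2.e2 (fun a4 a5 => @List.zipWith.{ku0, ku1, ku2} a0 a1 a2 a3 a4 a5) ?_ (fun c0 c1 => ?_) a4) a5 :) <;> [(funext b0; (rfl')); (funext b0; (cases b0 with | @nil  => (rfl') | @cons b0_0 b0_1 => (rfl')))]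
private noncomputable def _root_.Cfsg.Agent.KO7ce1ea2.oB.{ku} (α : Sort ku) (c : Bool) (f t : α) : α := @Decidable.rec (c = true) (fun _ => α) (fun _ => f) (fun _ => t) (instDecidableEqBool c true)
private noncomputable def _root_.Cfsg.Agent.KO7ce1ea2.k35.{ku} (α : Sort ku) (c : Bool) (f t : α) : α := @Bool.rec (fun _ => α) f t c
private theorem _root_.Cfsg.Agent.KO7ce1ea2.e35.{ku} : @_root_.Cfsg.Agent.KO7ce1ea2.oB.{ku} = @_root_.Cfsg.Agent.KO7ce1ea2.k35.{ku} := funext fun α => funext fun c => funext fun f => funext fun t => by cases c <;> rfl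
private noncomputable def _root_.Cfsg.Agent.KO7ce1ea2.k36 : (by first | exact type_of% @Cfsg.Agent.DL.Rows.Cert.lead | exact Unit : Sort _) := by first | (refine @Subtype.val _ (fun g => @Cfsg.Agent.DL.Rows.Cert.lead = @g) (@Subtype.mk _ _ (@(fun x0 => @List.rec.{1, 0} ℤ @(fun x1 => ℤ) (@Int.ofNat (nat_lit 0)) @(fun x1 x2 x3 => @Decidable.rec.{1} _ @(fun x4 => ℤ) @(fun x4 => @Cfsg.Agent.KO7ce1ea2.k35.{1} ℤ (@Cfsg.Agent.KO7ce1ea2.k3.{0} _ @x2 @(fun x5 => @Decidable.rec.{1} _ @(fun x6 => @Bool) @(fun x6 => @Bool.false) @(fun x6 => @Bool.true) (@Cfsg.Agent.KO7ce1ea2.k15 @x5 (@Int.ofNat (nat_lit 0))))) (@Int.ofNat (nat_lit 0)) @x1) @(fun x4 => @x3) (@Cfsg.Agent.KO7ce1ea2.k15 @x1 (@Int.ofNat (nat_lit 0)))) @x0)) ?_); rewrite [← Cfsg.Agent.KO7ce1ea2.e15, ← Cfsg.Agent.KO7ce1ea2.e3.{0}, ← Cfsg.Agent.KO7ce1ea2.e35.{1}]; rfl') | exact @Cfsg.Agent.DL.Rows.Cert.lead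 | exact ()
private theorem _root_.Cfsg.Agent.KO7ce1ea2.e36 : (by first | exact @Cfsg.Agent.DL.Rows.Cert.lead = @_root_.Cfsg.Agent.KO7ce1ea2.k36 | exact True : Prop) := by first | (delta _root_.Cfsg.Agent.KO7ce1ea2.k36; exact @Subtype.property _ (fun g => @Cfsg.Agent.DL.Rows.Cert.lead = @g) _) | rfl | trivial
private noncomputable def _root_.Cfsg.Agent.KO7ce1ea2.k37 : (by first | exact type_of% @Cfsg.Agent.DL.Rows.Cert.red1 | exact Unit : Sort _) := by first | (refine @Subtype.val _ (fun g => @Cfsg.Agent.DL.Rows.Cert.red1 = @g) (@Subtype.mk _ _ (@(fun x0 x1 => @List.rec.{1, 0} ℤ @(fun x2 => @List.{0} ℤ) [] @(fun x2 x3 x4 => @Cfsg.Agent.KO7ce1ea2.k8 _ (@Cfsg.Agent.KO7ce1ea2.k24 @x3 (@Cfsg.Agent.KO7ce1ea2.k9.{0, 0} _ _ @(fun x5 => @Cfsg.Agent.KO7ce1ea2.k10 (@Int.rec.{1} @(fun x6 => ℤ) @(fun x6 => @Nat.rec.{1} @(fun x7 => ℤ) (@Int.ofNat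 (nat_lit 0)) @(fun x7 x8 => @Int.negSucc @x7) @x6) @(fun x6 => @Int.ofNat (@Nat.succ @x6)) @x2) @x5) @x0)) (@id.{1} _)) @x1)) ?_); rewrite [← Cfsg.Agent.KO7ce1ea2.e10, ← Cfsg.Agent.KO7ce1ea2.e9.{0, 0}, ← Cfsg.Agent.KO7ce1ea2.e24, ← Cfsg.Agent.KO7ce1ea2.e8]; (try delta Cfsg.Agent.DL.Rows.Cert.red1 Cfsg.Agent.DL.Rows.Cert.psmul); (try generalize @Cfsg.Agent.DL.Rows.Cert.forceL = g0); (try generalize @Cfsg.Agent.DL.Rows.Cert.padd = g1); rfl') | exact @Cfsg.Agent.DL.Rows.Cert.red1 | exact ()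
private theorem _root_.Cfsg.Agent.KO7ce1ea2.e37 : (by first | exact @Cfsg.Agent.DL.Rows.Cert.red1 = @_root_.Cfsg.Agent.KO7ce1ea2.k37 | exact True : Prop) := by first | (delta _root_.Cfsg.Agent.KO7ce1ea2.k37; exact @Subtype.property _ (fun g => @Cfsg.Agent.DL.Rows.Cert.red1 = @g) _) | rfl | trivial
private noncomputable def _root_.Cfsg.Agent.KO7ce1ea2.k38 : (by first | exact type_of% @Cfsg.Agent.DL.Rows.Cert.redn | exact Unit : Sort _) := by first | (refine @Subtype.val _ (fun g => @Cfsg.Agent.DL.Rows.Cert.redn = @g) (@Subtype.mk _ _ (@(fun x0 x1 => @Nat.rec.{1} @(fun x2 => (@List.{0} ℤ) → @List.{0} ℤ) @(fun x2 => @x2) @(fun x2 x3 x4 => @x3 (@Cfsg.Agent.KO7ce1ea2.k37 @x1 @x4)) @x0)) ?_); rewrite [← Cfsg.Agent.KO7ce1ea2.e37]; (try delta Cfsg.Agent.DL.Rows.Cert.redn); (try generalize @Cfsg.Agent.DL.Rows.Cert.red1 = g0); rfl') | exact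 @Cfsg.Agent.DL.Rows.Cert.redn | exact ()
private theorem _root_.Cfsg.Agent.KO7ce1ea2.e38 : (by first | exact @Cfsg.Agent.DL.Rows.Cert.redn = @_root_.Cfsg.Agent.KO7ce1ea2.k38 | exact True : Prop) := by first | (delta _root_.Cfsg.Agent.KO7ce1ea2.k38; exact @Subtype.property _ (fun g => @Cfsg.Agent.DL.Rows.Cert.redn = @g) _) | rfl | trivial
private noncomputable def _root_.Cfsg.Agent.KO7ce1ea2.k39 : (by first | exact type_of% @Cfsg.Agent.DL.Rows.Cert.dot | exact Unit : Sort _) := by first | (refine @Subtype.val _ (fun g => @Cfsg.Agent.DL.Rows.Cert.dot = @g) (@Subtype.mk _ _ (@(fun x0 => @List.rec.{1, 0} ℤ @(fun x1 => (@List.{0} ℤ) → ℤ) @(fun x1 => @Int.ofNat (nat_lit 0)) @(fun x1 x2 x3 x4 => @List.rec.{1, 0} ℤ @(fun x5 => ℤ) (@Int.ofNat (nat_lit 0)) @(fun x5 x6 x7 => @Cfsg.Agent.KO7ce1ea2.k17 (@Cfsg.Agent.KO7ce1ea2.k10 @x1 @x5) (@x3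 @x6)) @x4) @x0)) ?_); rewrite [← Cfsg.Agent.KO7ce1ea2.e10, ← Cfsg.Agent.KO7ce1ea2.e17]; rfl') | exact @Cfsg.Agent.DL.Rows.Cert.dot | exact ()
private theorem _root_.Cfsg.Agent.KO7ce1ea2.e39 : (by first | exact @Cfsg.Agent.DL.Rows.Cert.dot = @_root_.Cfsg.Agent.KO7ce1ea2.k39 | exact True : Prop) := by first | (delta _root_.Cfsg.Agent.KO7ce1ea2.k39; exact @Subtype.property _ (fun g => @Cfsg.Agent.DL.Rows.Cert.dot = @g) _) | rfl | trivial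
private noncomputable def _root_.Cfsg.Agent.KO7ce1ea2.k40 : (by first | exact type_of% @Cfsg.Agent.DL.Rows.Cert.Ty.reflV | exact Unit : Sort _) := by first | (refine @Subtype.val _ (fun g => @Cfsg.Agent.DL.Rows.Cert.Ty.reflV = @g) (@Subtype.mk _ _ (@(fun x0 x1 x2 => @Cfsg.Agent.KO7ce1ea2.k7 _ (@Cfsg.Agent.KO7ce1ea2.k39 (@Option.rec.{1, 0} (@List.{0} ℤ) @(fun x3 => @List.{0} ℤ) [] @(fun x3 => @x3) (@Cfsg.Agent.KO7ce1ea2.k19.{0} _ (@Cfsg.Agent.DL.Rows.Cert.Ty.Am @x0) @x1)) @x2) @(fun x3 => @Cfsg.Agent.KO7ce1ea2.k8 _ (@Cfsg.Agent.KO7ce1ea2.k9.{0, 0} _ _ @(fun x4 => @Cfsg.Agent.KO7ce1ea2.k0.{1} ℤ @x4 @x1 (@Option.rec.{1, 0} ℤ @(fun x5 => ℤ) (@Int.ofNat (nat_lit 0)) @(fun x5 => @x5) (@Cfsg.Agent.KO7ce1ea2.k19.{0} _ @x2 @x4)) (@Cfsg.Agent.KO7ce1ea2.k17 (@Option.rec.{1, 0} ℤ @(fun x5 => ℤ) (@Int.ofNat (nat_lit 0)) @(fun x5 => @x5) (@Cfsg.Agent.KO7ce1ea2.k19.{0}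 _ @x2 @x4)) (@Int.rec.{1} @(fun x5 => ℤ) @(fun x5 => @Nat.rec.{1} @(fun x6 => ℤ) (@Int.ofNat (nat_lit 0)) @(fun x6 x7 => @Int.negSucc @x6) @x5) @(fun x5 => @Int.ofNat (@Nat.succ @x5)) @x3))) (@Cfsg.Agent.KO7ce1ea2.k5 (@Cfsg.Agent.DL.Rows.Cert.Ty.l @x0) [])) (@id.{1} _)))) ?_); rewrite [← Cfsg.Agent.KO7ce1ea2.e5, ← Cfsg.Agent.KO7ce1ea2.e17, ← Cfsg.Agent.KO7ce1ea2.e0.{1}, ← Cfsg.Agent.KO7ce1ea2.e9.{0, 0}, ← Cfsg.Agent.KO7ce1ea2.e8, ← Cfsg.Agent.KO7ce1ea2.e19.{0}, ← Cfsg.Agent.KO7ce1ea2.e39, ← Cfsg.Agent.KO7ce1ea2.e7]; (try delta Cfsg.Agent.DL.Rows.Cert.Ty.reflV Cfsg.Agent.DL.Rows.Cert.Ty.row Cfsg.Agent.DL.Rows.Cert.mkv Cfsg.Agent.DL.Rows.Cert.get); (try generalize @Cfsg.Agent.DL.Rows.Cert.forceI = g0); (try generalize @Cfsg.Agent.DL.Rows.Cert.dot = g1); (try generalize @Cfsg.Agent.DL.Rows.Cert.forceL = g2); rfl') | exact @Cfsg.Agent.DL.Rows.Cert.Ty.reflV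 | exact ()
private theorem _root_.Cfsg.Agent.KO7ce1ea2.e40 : (by first | exact @Cfsg.Agent.DL.Rows.Cert.Ty.reflV = @_root_.Cfsg.Agent.KO7ce1ea2.k40 | exact True : Prop) := by first | (delta _root_.Cfsg.Agent.KO7ce1ea2.k40; exact @Subtype.property _ (fun g => @Cfsg.Agent.DL.Rows.Cert.Ty.reflV = @g) _) | rfl | trivial
private noncomputable def _root_.Cfsg.Agent.KO7ce1ea2.k41 : (by first | exact type_of% @Cfsg.Agent.DL.Rows.Cert.Ty.cmap | exact Unit : Sort _) := by first | (refine @Subtype.val _ (fun g => @Cfsg.Agent.DL.Rows.Cert.Ty.cmap = @g) (@Subtype.mk _ _ (@(fun x0 x1 x2 => @Cfsg.Agent.KO7ce1ea2.k8 _ (@Cfsg.Agent.KO7ce1ea2.k27.{0, 0} _ _ (@Cfsg.Agent.KO7ce1ea2.k40 @x0) @x2 @x1) @(fun x3 => @Cfsg.Agent.KO7ce1ea2.k8 _ (@Cfsg.Agent.KO7ce1ea2.k9.{0, 0} _ _ @(fun x4 => @Cfsg.Agent.KO7ce1ea2.k10 (@Option.rec.{1, 0} ℤ @(fun x5 => ℤ) (@Int.ofNat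 (nat_lit 0)) @(fun x5 => @x5) (@Cfsg.Agent.KO7ce1ea2.k19.{0} _ (@Cfsg.Agent.DL.Rows.Cert.Ty.c @x0) @x4)) (@Option.rec.{1, 0} ℤ @(fun x5 => ℤ) (@Int.ofNat (nat_lit 0)) @(fun x5 => @x5) (@Cfsg.Agent.KO7ce1ea2.k19.{0} _ @x3 (@Option.rec.{1, 0} ℕ @(fun x5 => ℕ) (nat_lit 0) @(fun x5 => @x5) (@Cfsg.Agent.KO7ce1ea2.k19.{0} _ (@Cfsg.Agent.DL.Rows.Cert.Ty.pi @x0) @x4))))) (@Cfsg.Agent.KO7ce1ea2.k5 (@Cfsg.Agent.DL.Rows.Cert.Ty.l @x0) [])) (@id.{1} _)))) ?_); rewrite [← Cfsg.Agent.KO7ce1ea2.e5, ← Cfsg.Agent.KO7ce1ea2.e19.{0}, ← Cfsg.Agent.KO7ce1ea2.e10, ← Cfsg.Agent.KO7ce1ea2.e9.{0, 0}, ← Cfsg.Agent.KO7ce1ea2.e40, ← Cfsg.Agent.KO7ce1ea2.e27.{0, 0}, ← Cfsg.Agent.KO7ce1ea2.e8]; (try delta Cfsg.Agent.DL.Rows.Cert.Ty.cmap Cfsg.Agent.DL.Rows.Cert.mkv Cfsg.Agent.DL.Rows.Cert.get); (try generalize @Cfsg.Agent.DL.Rows.Cert.forceL = g0); (try generalize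 @Cfsg.Agent.DL.Rows.Cert.Ty.reflV = g1); rfl') | exact @Cfsg.Agent.DL.Rows.Cert.Ty.cmap | exact ()
private theorem _root_.Cfsg.Agent.KO7ce1ea2.e41 : (by first | exact @Cfsg.Agent.DL.Rows.Cert.Ty.cmap = @_root_.Cfsg.Agent.KO7ce1ea2.k41 | exact True : Prop) := by first | (delta _root_.Cfsg.Agent.KO7ce1ea2.k41; exact @Subtype.property _ (fun g => @Cfsg.Agent.DL.Rows.Cert.Ty.cmap = @g) _) | rfl | trivial
private noncomputable def _root_.Cfsg.Agent.KO7ce1ea2.k42 : (by first | exact type_of% @Cfsg.Agent.DL.Rows.Cert.Ty.hor | exact Unit : Sort _) := by first | (refine @Subtype.val _ (fun g => @Cfsg.Agent.DL.Rows.Cert.Ty.hor = @g) (@Subtype.mk _ _ (@(fun x0 x1 x2 x3 => @List.rec.{1, 0} ℤ @(fun x4 => (@List.{0} ℤ) → (@List.{0} (@List.{0} ℤ)) × (@List.{0} ℤ)) @(fun x4 => ([], @x4)) @(fun x4 x5 x6 x7 => @Cfsg.Agent.KO7ce1ea2.k8 _ (@Cfsg.Agent.KO7ce1ea2.k41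 @x0 @x1 @x7) @(fun x8 => @Cfsg.Agent.KO7ce1ea2.k8 _ (@Cfsg.Agent.KO7ce1ea2.k9.{0, 0} _ _ @(fun x9 => @Cfsg.Agent.KO7ce1ea2.k17 (@Option.rec.{1, 0} ℤ @(fun x10 => ℤ) (@Int.ofNat (nat_lit 0)) @(fun x10 => @x10) (@Cfsg.Agent.KO7ce1ea2.k19.{0} _ @x8 @x9)) (@Cfsg.Agent.KO7ce1ea2.k10 @x4 (@Option.rec.{1, 0} ℤ @(fun x10 => ℤ) (@Int.ofNat (nat_lit 0)) @(fun x10 => @x10) (@Cfsg.Agent.KO7ce1ea2.k19.{0} _ @x2 @x9)))) (@Cfsg.Agent.KO7ce1ea2.k5 (@Cfsg.Agent.DL.Rows.Cert.Ty.l @x0) [])) @(fun x9 => (@x7 :: (@Prod.fst.{0, 0} _ _ (@x6 @x9)), @Prod.snd.{0, 0} _ _ (@x6 @x9))))) @x3)) ?_); rewrite [← Cfsg.Agent.KO7ce1ea2.e5, ← Cfsg.Agent.KO7ce1ea2.e10, ← Cfsg.Agent.KO7ce1ea2.e19.{0}, ← Cfsg.Agent.KO7ce1ea2.e17, ← Cfsg.Agent.KO7ce1ea2.e9.{0, 0}, ← Cfsg.Agent.KO7ce1ea2.e41, ← Cfsg.Agent.KO7ce1ea2.e8]; (try delta Cfsg.Agent.DL.Rows.Cert.Ty.hor Cfsg.Agent.DL.Rows.Cert.mkv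 Cfsg.Agent.DL.Rows.Cert.get); (try generalize @Cfsg.Agent.DL.Rows.Cert.forceL = g0); (try generalize @Cfsg.Agent.DL.Rows.Cert.Ty.cmap = g1); rfl') | exact @Cfsg.Agent.DL.Rows.Cert.Ty.hor | exact ()
private theorem _root_.Cfsg.Agent.KO7ce1ea2.e42 : (by first | exact @Cfsg.Agent.DL.Rows.Cert.Ty.hor = @_root_.Cfsg.Agent.KO7ce1ea2.k42 | exact True : Prop) := by first | (delta _root_.Cfsg.Agent.KO7ce1ea2.k42; exact @Subtype.property _ (fun g => @Cfsg.Agent.DL.Rows.Cert.Ty.hor = @g) _) | rfl | trivial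
private noncomputable def _root_.Cfsg.Agent.KO7ce1ea2.k43 : (by first | exact type_of% @Cfsg.Agent.DL.Rows.Cert.Ty.unit | exact Unit : Sort _) := by first | (refine @Subtype.val _ (fun g => @Cfsg.Agent.DL.Rows.Cert.Ty.unit = @g) (@Subtype.mk _ _ (@(fun x0 x1 => @Cfsg.Agent.KO7ce1ea2.k9.{0, 0} _ _ @(fun x2 => @Cfsg.Agent.KO7ce1ea2.k0.{1} ℤ @x2 @x1 (@Int.ofNat (nat_lit 0)) (@Int.ofNat (nat_lit 1))) (@Cfsg.Agent.KO7ce1ea2.k5 (@Cfsg.Agent.DL.Rows.Cert.Ty.l @x0) []))) ?_); rewrite [← Cfsg.Agent.KO7ce1ea2.e5, ← Cfsg.Agent.KO7ce1ea2.e0.{1}, ← Cfsg.Agent.KO7ce1ea2.e9.{0, 0}]; rfl') | exact @Cfsg.Agent.DL.Rows.Cert.Ty.unit | exact ()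
private theorem _root_.Cfsg.Agent.KO7ce1ea2.e43 : (by first | exact @Cfsg.Agent.DL.Rows.Cert.Ty.unit = @_root_.Cfsg.Agent.KO7ce1ea2.k43 | exact True : Prop) := by first | (delta _root_.Cfsg.Agent.KO7ce1ea2.k43; exact @Subtype.property _ (fun g => @Cfsg.Agent.DL.Rows.Cert.Ty.unit = @g) _) | rfl | trivial
private noncomputable def _root_.Cfsg.Agent.KO7ce1ea2.k44 : (by first | exact type_of% @Cfsg.Agent.DL.Rows.Cert.Tor.ok | exact Unit : Sort _) := by first | (refine @Subtype.val _ (fun g => @Cfsg.Agent.DL.Rows.Cert.Tor.ok = @g) (@Subtype.mk _ _ (@(fun x0 x1 => @Bool.rec.{1} @(fun x2 => @Bool) @Bool.false (@Cfsg.Agent.KO7ce1ea2.k3.{0} _ (@Cfsg.Agent.KO7ce1ea2.k5 (@Nat.add (@Cfsg.Agent.DL.Rows.Cert.Ty.l @x0) (nat_lit 2)) []) @(fun x2 => @Bool.rec.{1} @(fun x3 => @Bool) (@Cfsg.Agent.KO7ce1ea2.k23.{0} _ (@Cfsg.Agent.DL.Rows.Cert.Tor.B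 @x1) @(fun x3 => @Bool.rec.{1} @(fun x4 => @Bool) @Bool.false (@Cfsg.Agent.KO7ce1ea2.k0.{1} @Bool (@Nat.mod @x2 @x3) (nat_lit 0) @Bool.false @Bool.true) (@Cfsg.Agent.KO7ce1ea2.k1.{1} @Bool (@Nat.succ (nat_lit 1)) @x3 @Bool.false @Bool.true))) @Bool.true (@Cfsg.Agent.KO7ce1ea2.k1.{1} @Bool (@Nat.succ @x2) (nat_lit 2) @Bool.false @Bool.true))) (@Bool.rec.{1} @(fun x2 => @Bool) @Bool.false (@Cfsg.Agent.KO7ce1ea2.k32 ((@Int.ofNat (nat_lit 1)) :: (@Cfsg.Agent.DL.Rows.Cert.Tor.gt @x1)) (@Cfsg.Agent.DL.Rows.Cert.Tor.B @x1) (@Cfsg.Agent.DL.Rows.Cert.Tor.c @x1) (@Cfsg.Agent.DL.Rows.Cert.Tor.q₀ @x1)) (@Bool.rec.{1} @(fun x2 => @Bool) @Bool.false (@Bool.rec.{1} @(fun x2 => @Bool) @Bool.false (@Cfsg.Agent.KO7ce1ea2.k3.{0} _ (@Cfsg.Agent.KO7ce1ea2.k34.{0, 0, 0} _ _ _ (@Prod.mk.{0, 0} _ _) (@Cfsg.Agent.DL.Rows.Cert.Ty.L @x0) (@Cfsg.Agent.DL.Rows.Cert.Tor.Us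 @x1)) @(fun x2 => @Cfsg.Agent.KO7ce1ea2.k7 _ (@Cfsg.Agent.KO7ce1ea2.k36 (@Cfsg.Agent.KO7ce1ea2.k38 (@Nat.sub (@Cfsg.Agent.KO7ce1ea2.k21.{0} _ (@Cfsg.Agent.DL.Rows.Cert.Tor.gt @x1)) (nat_lit 1)) (@Cfsg.Agent.DL.Rows.Cert.Tor.gt @x1) (@Cfsg.Agent.KO7ce1ea2.k8 _ (@Cfsg.Agent.KO7ce1ea2.k9.{0, 0} _ _ (@Cfsg.Agent.KO7ce1ea2.k39 (@Prod.fst.{0, 0} _ _ @x2)) (@Cfsg.Agent.DL.Rows.Cert.Tor.xs @x1)) @(fun x3 => @Cfsg.Agent.KO7ce1ea2.k25 (@Prod.snd.{0, 0} _ _ @x2) @x3)))) @(fun x3 => @Bool.rec.{1} @(fun x4 => @Bool) @Bool.false (@Decidable.rec.{1} _ @(fun x4 => @Bool) @(fun x4 => @Bool.false) @(fun x4 => @Bool.true) (@Cfsg.Agent.KO7ce1ea2.k15 (@Int.ofNat (@Nat.mod (@Nat.pow (@List.foldr.{0, 0} _ _ @(fun x4 x5 => @Nat.mul @x4 @x5) (nat_lit 1) (@Cfsg.Agent.DL.Rows.Cert.Tor.B @x1)) (nat_lit 30)) (@Int.rec.{1} @(fun x4 => ℕ) @(fun x4 => @x4) @(fun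 x4 => @Nat.succ @x4) @x3))) (@Int.ofNat (nat_lit 0)))) (@Bool.rec.{1} @(fun x4 => @Bool) @Bool.true @Bool.false (@Decidable.rec.{1} _ @(fun x4 => @Bool) @(fun x4 => @Bool.false) @(fun x4 => @Bool.true) (@Cfsg.Agent.KO7ce1ea2.k15 @x3 (@Int.ofNat (nat_lit 0)))))))) (@Cfsg.Agent.KO7ce1ea2.k0.{1} @Bool (@Cfsg.Agent.KO7ce1ea2.k21.{0} _ (@Cfsg.Agent.DL.Rows.Cert.Tor.Us @x1)) (@Cfsg.Agent.KO7ce1ea2.k21.{0} _ (@Cfsg.Agent.DL.Rows.Cert.Ty.L @x0)) @Bool.false @Bool.true)) (@Bool.rec.{1} @(fun x2 => @Bool) @Bool.false (@Bool.rec.{1} @(fun x2 => @Bool) @Bool.false (@Cfsg.Agent.KO7ce1ea2.k13.{0} _ (@BEq.mk.{0} _ (@Cfsg.Agent.KO7ce1ea2.k13.{0} _ (@BEq.mk.{0} _ @(fun x2 x3 => @Decidable.rec.{1} _ @(fun x4 => @Bool) @(fun x4 => @Bool.false) @(fun x4 => @Bool.true) (@Cfsg.Agent.KO7ce1ea2.k15 @x2 @x3))))) (@Prod.fst.{0, 0} _ _ (@Cfsg.Agent.KO7ce1ea2.k42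 @x0 (@Cfsg.Agent.DL.Rows.Cert.Tor.wd @x1) (@Cfsg.Agent.DL.Rows.Cert.Tor.e @x1) (@Cfsg.Agent.DL.Rows.Cert.Tor.gt @x1) (@Cfsg.Agent.DL.Rows.Cert.Tor.e @x1))) (@Cfsg.Agent.DL.Rows.Cert.Tor.xs @x1)) (@Cfsg.Agent.KO7ce1ea2.k3.{0} _ (@Prod.snd.{0, 0} _ _ (@Cfsg.Agent.KO7ce1ea2.k42 @x0 (@Cfsg.Agent.DL.Rows.Cert.Tor.wd @x1) (@Cfsg.Agent.DL.Rows.Cert.Tor.e @x1) (@Cfsg.Agent.DL.Rows.Cert.Tor.gt @x1) (@Cfsg.Agent.DL.Rows.Cert.Tor.e @x1))) @(fun x2 => @Decidable.rec.{1} _ @(fun x3 => @Bool) @(fun x3 => @Bool.false) @(fun x3 => @Bool.true) (@Cfsg.Agent.KO7ce1ea2.k15 @x2 (@Int.ofNat (nat_lit 0)))))) (@Bool.rec.{1} @(fun x2 => @Bool) @Bool.false (@Cfsg.Agent.KO7ce1ea2.k3.{0} _ (@Cfsg.Agent.KO7ce1ea2.k5 (@Cfsg.Agent.DL.Rows.Cert.Ty.l @x0) []) @(fun x2 => @Cfsg.Agent.KO7ce1ea2.k3.{0} _ (@Prod.snd.{0, 0} _ _ (@Cfsg.Agent.KO7ce1ea2.k42 @x0 (@Cfsg.Agent.DL.Rows.Cert.Tor.wd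 @x1) (@Cfsg.Agent.KO7ce1ea2.k43 @x0 @x2) (@Cfsg.Agent.DL.Rows.Cert.Tor.Gt @x1) (@Cfsg.Agent.KO7ce1ea2.k43 @x0 @x2))) @(fun x3 => @Decidable.rec.{1} _ @(fun x4 => @Bool) @(fun x4 => @Bool.false) @(fun x4 => @Bool.true) (@Cfsg.Agent.KO7ce1ea2.k15 @x3 (@Int.ofNat (nat_lit 0)))))) (@Cfsg.Agent.KO7ce1ea2.k3.{0} _ (@Cfsg.Agent.DL.Rows.Cert.Tor.wd @x1) @(fun x2 => @Cfsg.Agent.KO7ce1ea2.k1.{1} @Bool (@Nat.succ @x2) (@Cfsg.Agent.DL.Rows.Cert.Ty.l @x0) @Bool.false @Bool.true)))))))) ?_); rewrite [← Cfsg.Agent.KO7ce1ea2.e43, ← Cfsg.Agent.KO7ce1ea2.e42, ← Cfsg.Agent.KO7ce1ea2.e13.{0}, ← Cfsg.Agent.KO7ce1ea2.e15, ← Cfsg.Agent.KO7ce1ea2.e25, ← Cfsg.Agent.KO7ce1ea2.e39, ← Cfsg.Agent.KO7ce1ea2.e9.{0, 0}, ← Cfsg.Agent.KO7ce1ea2.e8, ← Cfsg.Agent.KO7ce1ea2.e21.{0}, ← Cfsg.Agent.KO7ce1ea2.e38, ← Cfsg.Agent.KO7ce1ea2.e36, ← Cfsg.Agent.KO7ce1ea2.e7, ←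 Cfsg.Agent.KO7ce1ea2.e34.{0, 0, 0}, ← Cfsg.Agent.KO7ce1ea2.e32, ← Cfsg.Agent.KO7ce1ea2.e1.{1}, ← Cfsg.Agent.KO7ce1ea2.e0.{1}, ← Cfsg.Agent.KO7ce1ea2.e23.{0}, ← Cfsg.Agent.KO7ce1ea2.e5, ← Cfsg.Agent.KO7ce1ea2.e3.{0}]; (try delta Cfsg.Agent.DL.Rows.Cert.Tor.ok); (try generalize @Cfsg.Agent.DL.Rows.Cert.primeOK = g0); (try generalize @Cfsg.Agent.DL.Rows.Cert.forceI = g1); (try generalize @Cfsg.Agent.DL.Rows.Cert.lead = g2); (try generalize @Cfsg.Agent.DL.Rows.Cert.redn = g3); (try generalize @Cfsg.Agent.DL.Rows.Cert.forceL = g4); (try generalize @Cfsg.Agent.DL.Rows.Cert.dot = g5); (try generalize @Cfsg.Agent.DL.Rows.Cert.pmul = g6); (try generalize @Cfsg.Agent.DL.Rows.Cert.Ty.hor = g7); (try generalize @Cfsg.Agent.DL.Rows.Cert.Ty.unit = g8); rfl') | exact @Cfsg.Agent.DL.Rows.Cert.Tor.ok | exact ()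
private theorem _root_.Cfsg.Agent.KO7ce1ea2.e44 : (by first | exact @Cfsg.Agent.DL.Rows.Cert.Tor.ok = @_root_.Cfsg.Agent.KO7ce1ea2.k44 | exact True : Prop) := by first | (delta _root_.Cfsg.Agent.KO7ce1ea2.k44; exact @Subtype.property _ (fun g => @Cfsg.Agent.DL.Rows.Cert.Tor.ok = @g) _) | rfl | trivial

theorem okE6a : torE6a.ok tyE6 = true := by (first | (rewrite [Cfsg.Agent.KO7ce1ea2.e44]; decide +kernel) | decide +kernel)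

def torE6b : Tor where
  wd := [4, 1, 5, 2, 0, 3]
  Gt := [1, 0, -1, 0, 1, 1]
  gt := [0, -1, 0, 1]
  e := [0, -1, -1, -1, -1, 0]
  xs :=
    (beta% delta% lq26b1ef3c63 fun a b _ =>
 (a (a 0<|a (-1)<|a (-1)<|a (-1)<|a (-1)<|a 0<|b)<|a (a (-1)<|a (-1)<|a (-2)<|a (-2)<|a (-2)<|a (-1)<|b)<|a (a (-1)<|a (-1)<|a (-1)<|a (-2)<|a (-1)<|a (-1)<|b)<|a (a 0<|a 0<|a 0<|a (-1)<|a 0<|a 0<|b)<|b))
  Us :=
    (let yq15 : List (List ℤ) := (let yq16 : List (List ℤ) := (let yq17 : List (List ℤ) := %[[0, 1, -1, 0], [0, 1, -1, 0], [-1, 2, 0, -1], [-1, 1, 1, -2], [2, -1, -1, 1] | []];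
  %[[1, -1, 0, 0], [0, 0, 1, -1], [1,
    0, -2, 1], [0, 0, 1, -1] | yq17]);
  (let yq18 : type_of% yq16 := %[[0, 1, -1, -1], [1, 0, 0, -1], [1, 0, -1, 1], [1, -1, 0, 0], [1, 1, -1, 0] | yq16];
  %[[1, -1, 1, 0], [1, 0, -1, 0], [0, 1, 0, -1], [1, 0, -1, 1] | yq18]));
  (let yq19 : type_of% yq15 := (let yq20 : type_of% yq15 := %[[1, 0, 0, 0], [0, 1, 1,
    -1], [-1, 1, 0, -1], [1, 0, -1, 0], [0, 1, 0, -1] | yq15];
  %[[0, 0, 0, -1], [0, 1, 0, 0], [-1, 1, 0, -1], [1, 0, 0, 0] | yq20]);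
  (let yq21 : type_of% yq19 := %[[-1, 1, 1, -1], [0, 0, -1, 0], [0, 1, 0, 0], [1,
    -1, -1, 0], [0, 0, 0, -1] | yq19];
  %[[0, 0, -1, 0], [1, 0, 0, 1], [-1, 1, 1, -1], [0, -1, 1, -1] | yq21])))
  B := [2, 3, 5, 7]
  c := 1
  q₀ := 2

theorem okE6b : torE6b.ok tyE6 = true := by (first | (rewrite [Cfsg.Agent.KO7ce1ea2.e44]; decide +kernel) | decide +kernel)

theorem copE6 : (beta% delta% lq26b1ef3c63 fun a b c =>
 c torE6a.Gt torE6b.Gt (a 0<|a (-2)<|a 0<|a (-1)<|a 0<|a (-2)<|b)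
 (a 3<|a (-1)<|a 1<|a 3<|a (-2)<|a 2<|b) :
 Bool) = true := by decide +kernel

def tyE7 : Ty where
  l := 7
  Am := (beta% delta% lq26b1ef3c63 fun a b _ =>
 (a (a 2<|a 0<|a (-1)<|a 0<|a 0<|a 0<|a 0<|b)<|a (a 0<|a 2<|a 0<|a (-1)<|a 0<|a 0<|a 0<|b)<|a (a (-1)<|a 0<|a 2<|a (-1)<|a 0<|a 0<|a 0<|b)<|a (a 0<|a (-1)<|a (-1)<|a 2<|a (-1)<|a 0<|a 0<|b)<|a (a 0<|a 0<|a 0<|a (-1)<|a 2<|a (-1)<|a 0<|b)<|a (a 0<|a 0<|a 0<|a 0<|a (-1)<|a 2<|a (-1)<|b)<|a (a 0<|a 0<|a 0<|a 0<|a 0<|a (-1)<|a 2<|b)<|b))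
  pi := [0, 1, 2, 3, 4, 5, 6]
  c := [1, 1, 1, 1, 1, 1, 1]
  L :=
    (let yq22 : List (List ℤ) := (let yq23 : List (List ℤ) := (let yq24 : List (List ℤ) := (let yq25 : List (List ℤ) := %[[0, 1, 0, -1, 1, 0, 0], [0, 0, -1, 1, 0, 0, 0], [-1, 0, 1, 0, 0, 0, 0], [1, 0,
    0, 0, 0, 0, 0] | []];
  %[[0, 1, 0, 0, 0, -1, 1], [0, -1, 0, 1, -1, 1, 0], [0, 1, 0, 0, -1,
    1, 0], [0, -1, 0, 0, 1, 0, 0] | yq25]);
  (let yq26 : type_of% yq24 := %[[1, 0, -1, 0, 0, 1, 0], [0, 1, 0, 0, 0, 0, -1], [0,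
    -1, 0, 1, 0, -1, 1], [0, 0, 1, -1, 0, 1, 0] | yq24];
  %[[1, 0, -1, 0, 1, -1, 1], [-1, 0, 0, 0, 0,
    1, 0], [0, -1, 0, 1, 0, 0, -1], [0, 0, 1, -1, 1, -1, 1] | yq26]));
  (let yq27 : type_of% yq23 := (let yq28 : type_of% yq23 := %[[1, 0, -1, 1, -1, 0, 1], [-1,
    0, 0, 0, 1, -1, 1], [0, 0, 1, -1, 1, 0, -1], [0, 0, 1, 0, -1, 0, 1] | yq23];
  %[[-1, 0, 0, 0, 1, 0,
    -1], [-1, 0, 0, 1, -1, 0, 1], [0, 0, 1, 0, -1, 1, -1], [1, 0, -1, 0, 1, 0, -1] | yq28]);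
  (let yq29 : type_of% yq27 := %[[-1, 1,
    1, -1, 0, 0, 1], [0, 0, 1, 0, 0, -1, 0], [1, 0, -1, 1, -1, 1, -1], [1, 1, 0, -1, 0, 0, 1] | yq27];
  %[[1, 0, -1, 1, 0, -1, 0], [1, 1, 0, -1, 0, 1, -1], [1, -1, 0, 0, 0, 0, 1], [-1, 0, 0, 1, -1, 1, -1] | yq29])));
  (let yq30 : type_of% yq22 := (let yq31 : type_of% yq22 := (let yq32 : type_of% yq22 := %[[-1, 0, 0, 1, 0, -1, 0], [-1, 1, 1, -1, 0, 1, -1], [0, 1, -1, 0, 0, 0, 1], [-1, -1, 1, 0, 0, 0,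
    1] | yq22];
  %[[-1, -1, 1, 0, 0, 1, -1], [0, -1, -1, 1, 0, 0, 1], [1, 1, 0, -1, 1, -1, 0], [1, -1, 0,
    0, 0, 1, -1] | yq32]);
  (let yq33 : type_of% yq31 := %[[1, 1, 0, 0, -1, 0, 0], [1, -1, 0, 0, 1, -1, 0], [-1, 1, 1, -1, 1, -1, 0],
    [0, 1, -1, 0, 0, 1, -1] | yq31];
  %[[0, 1, -1, 0, 1, -1, 0], [-1, -1, 1, 0, 1, -1, 0], [0, -1, -1, 1,
    0, 1, -1], [0, 0, 0, -1, 1, 0, 1] | yq33]));
  (let yq34 : type_of% yq30 := (let yq35 : type_of% yq30 := %[[0, 0, 0, -1, 1, 1, -1], [0, 0, 0, 0, -1, 1, 1], [1,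
    -1, 0, 1, -1, 0, 0], [-1, 1, 1, 0, -1, 0, 0] | yq30];
  %[[1, 0, 1, -1, 0, 0, 0], [0, 1, -1, 1, -1, 0,
    0], [-1, -1, 1, 1, -1, 0, 0], [0, -1, -1, 1, 1, -1, 0] | yq35]);
  %[[2, 0, -1, 0, 0, 0, 0], [0, 2, 0, -1, 0, 0, 0], [-1, 0, 2, -1, 0, 0, 0], [0, -1, -1, 2, -1, 0, 0], [0, 0, 0,
    -1, 2, -1, 0], [0, 0, 0, 0, -1, 2, -1], [0, 0, 0, 0, 0, -1, 2] | yq34])))

theorem okE7 : tyE7.ok = true := by (first | (rewrite [Cfsg.Agent.KO7ce1ea2.e22]; decide +kernel) | decide +kernel)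

def torE7a : Tor where
  wd := [1, 3, 5, 4, 2, 0, 3, 2]
  Gt := [-1, 0, 1, -1, 0, 1, -1]
  gt := [0, 0, 1, 0, 0, 1]
  e := [-1, 0, 0, 0, 1, 1, 0]
  xs :=
    (beta% delta% lq26b1ef3c63 fun a b _ =>
 (a (a (-1)<|a 0<|a 0<|a 0<|a 1<|a 1<|a 0<|b)<|a (a 0<|a 1<|a 1<|a 1<|a 0<|a (-1)<|a 0<|b)<|a (a 0<|a (-1)<|a 0<|a 0<|a (-1)<|a 0<|a 0<|b)<|a (a (-1)<|a (-1)<|a (-2)<|a (-2)<|a 0<|a 0<|a 0<|b)<|a (a 0<|a 1<|a 1<|
 a 0<|a 0<|a 0<|a 0<|b)<|a (a (-1)<|a 0<|a 0<|a 1<|a 0<|a 0<|a 0<|b)<|b))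
  Us :=
    (let yq36 : List (List ℤ) := (let yq37 : List (List ℤ) := (let yq38 : List (List ℤ) := (let yq39 : List (List ℤ) := %[[1, 1, 4, 2, 2, 2], [1, 1,
    1, 2, 2, 2], [1, 4, 1, 2, 2, -1], [1, 1, 1, 2, 2, -1] | []];
  %[[-2, 1, 4, 2, 5, 5], [1, 4, 4, 5, 5, 2], [-2, 1, 1, -1, 2, 2], [1, 1, 1, 2, -1, -1] | yq39]);
  (let yq40 : type_of% yq38 := %[[-2, 1, 1, 2, 2, 2], [0, 1, 2, 0, 2, 1], [4, 1, 1, 2, -1, -1], [4, 4, 1, 2, -1, -4] | yq38];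
  %[[4, 4, 4, 5, 2, -1], [-5, -2, 1, -1, 2, 5], [1, 2, 0, 2, 1, 0],
    [1, 1, 1, -1, -1, -1] | yq40]));
  (let yq41 : type_of% yq37 := (let yq42 : type_of% yq37 := %[[-2, -2, 1, -1, 2, 2], [4, 1, -2, -1, -4, -4],
    [0, 2, 1, 0, 1, -1], [1, -2, -5, -4, -4, -4] | yq37];
  %[[1, 2, 2, 2, 1, 1],
    [-2, -2, -2, -1, -1, 2], [1, 3, 2, 2, 3, 1], [1, 0, 2, 2, 0, 1] | yq42]);
  (let yq43 : type_of% yq41 := %[[-2,
    -2, -2, -4, -1, -1], [2, 2, 1, 1, 1, -1], [-1, 1, 0, 1, 2, 0], [-5, -5, -2, -4, -1, 2] | yq41];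
  %[[1, 1, 2, 2, 2, 1], [-1, 1, 2, 1, 2, 1], [1, 1, -2, -1, -1, -4], [-1, 1, 1, 1, 2, 2] | yq43])));
  (let yq44 : type_of% yq36 := (let yq45 : type_of% yq36 := (let yq46 : type_of% yq36 := %[[2, 3, 4, 4, 3, 2], [-2, 2, 3, 2, 4, 3], [-2, -2, 1, -1, -1, 2], [1,
    1, -2, -1, -1, -1] | yq36];
  %[[2, 3, 1, 1, 0, -1], [-2, -5, -5, -4, -4, -1],
    [1, 2, 3, 2, 1, 0], [1, 2, 1, 2, 1, -1] | yq46]);
  (let yq47 : type_of% yq45 := %[[-1, 0, 1, 1, 3, 2],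
    [2, 0, 1, 1, 0, -1], [4, 3, 2, 2, 0, -2], [-1, 0, 1, 1, 0, 2] | yq45];
  %[[-1, 1, 3, 1, 2, 3], [2, 1, 0, 1, -1, 0], [0, 1, 2, 3, 2, 1], [1, -2, -2, -1, -4, -1] | yq47]));
  (let yq48 : type_of% yq44 := (let yq49 : type_of% yq44 := %[[2, 4, 3, 4, 2, 0], [-2, -2, -2, -1, -1, -1], [3, 4, 2, 3, 2, -2], [-4, -2, 0, -2, 2,
    3] | yq44];
  %[[2, 1, 0, 1, -1, -3], [0, -1, 1, 0, 1, 2], [3, 2, -2, 0, -2,
    -4], [3, 2, 1, 3, 1, -1] | yq49]);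
  %[[0, 2, 4, 3, 4, 2], [-2, -1, 1, -1, 1, 2], [1, 1, -1, -1, -1, -2], [-2, 0, 2, 2, 3, 4], [2, 1, 1, 1, -1, -1],
    [-3, -1, 1, 0, 1, 2], [1, -2, -2, -1, -1, -1] | yq48])))
  B := [2, 3, 5, 7]
  c := 3
  q₀ := 2

theorem okE7a : torE7a.ok tyE7 = true := by (first | (rewrite [Cfsg.Agent.KO7ce1ea2.e44]; decide +kernel) | decide +kernel)

def torE7b : Tor where
  wd := [4, 2, 0, 5, 1, 3, 6]
  Gt := [1, 0, -1, -1, 0, 1, 1]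
  gt := [0, 0, -1, 0, 0, 1]
  e := [0, 0, -1, 0, 0, 0, 0]
  xs :=
    (beta% delta% lq26b1ef3c63 fun a b _ =>
 (a (a 0<|a 0<|a (-1)<|a 0<|a 0<|a 0<|a 0<|b)<|a (a (-1)<|a (-1)<|a (-1)<|a (-1)<|a (-1)<|a 0<|a 0<|b)<|a (a 0<|a (-1)<|a (-1)<|a (-2)<|a (-2)<|a (-1)<|a 0<|b)<|a (a (-1)<|a (-1)<|a (-1)<|a (-2)<|a (-2)<|a (-2)<|a (-1)<|b)<|
 a (a 0<|a (-1)<|a (-1)<|a (-2)<|a (-1)<|a (-1)<|a (-1)<|b)<|a (a (-1)<|a 0<|a (-1)<|a (-1)<|a 0<|a 0<|a 0<|b)<|b))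
  Us :=
    (let yq50 : List (List ℤ) := (let yq51 : List (List ℤ) := (let yq52 : List (List ℤ) := (let yq53 : List (List ℤ) := %[[0, 1, 1, 0,
    -2, 1], [0, -1, 2, 0, -1, -1], [1, 1, 0, -2, 1, 0], [1, 0, -1, 1, 0, -1] | []];
  %[[2, 0, 0, -1, 0, 0], [-1, 2, 0, -1, -1, 0], [2, 1, -1, -1, -2, 2], [-2, 2, 1, 1, -1, -2] | yq53]);
  (let yq54 : type_of% yq52 := %[[0, 1, 0, 0, -2, 0], [2, -2, 2, -1, 1, -1], [1, -1, 1, -2, 2, -2], [0, 2, 0, 0,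
    -1, 0] | yq52];
  %[[1, -1, 1, 1, -1, -2], [1, 0, 2, -2, 0, -1], [0, 0, 1, 0,
    0, -2], [1, 2, -2, 1, -1, 1] | yq54]));
  (let yq55 : type_of% yq51 := (let yq56 : type_of% yq51 := %[[2, 0, -2, -1, 0, 1], [1, 2, 1, -2,
    -1, 1], [-1, 0, 1, 2, 0, -2], [0, 2, -1, 0, -1, -1] | yq51];
  %[[0, 0, 2,
    0, 0, -1], [1, 0, 0, -2, 0, 0], [2, 1, -1, -1, 1, -1], [1, 1, 0, 1, -2, 0] | yq56]);
  (let yq57 : type_of% yq55 := %[[2, 0, 1, -1, 0, 1], [0, 1, 1, 0, 1, -2], [-1, 1, -1, 2, -2, -1], [2, 2, 0, -1, -1, 0] | yq55];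
  %[[2, -1, 0, -1, -1, 0], [-1, 1, 2, 2, -2, -1], [1, 2, -2, -2, -1, 1], [-1, 1, 2,
    -1, -2, -1] | yq57])));
  (let yq58 : type_of% yq50 := (let yq59 : type_of% yq50 := (let yq60 : type_of% yq50 := %[[2, 0, 1, -1, 0, -2], [-1, 1, 2, -1, 1, -1], [1, 1, 0, -2,
    -2, 0], [1, 2, 1, -2, -1, -2] | yq50];
  %[[0, 2, 2, 0, -1, -1], [1, -1, 1, -2,
    -1, 1], [1, 0, 0, 1, 0, 0], [0, 1, 1, 0, -2, -2] | yq60]);
  (let yq61 : type_of% yq59 := %[[2, 1, -1, -1, -2,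
    -1], [1, 2, 1, 1, -1, -2], [2, -1, 0, -1, 2, 0], [2, 1, 2, -1, -2, -1] | yq59];
  %[[1, 0, 2, 1, 0, -1], [1, -1, 1, 1, 2, -2], [-1, 0, 1, -1, 0, -2], [1, 2, 1, 1, -1, 1] | yq61]));
  (let yq62 : type_of% yq58 := (let yq63 : type_of% yq58 := %[[-1, 2, 0, 2, -1, 0], [0, 1, -2, 0, -2, 1], [0, 0, -1, 0, 0, -1], [2, 1, 2, -1, 1,
    -1] | yq58];
  %[[1, 1, 0, 1, 1, 0], [2, -2, -1, -1, 1, -1], [1, 0, -1, -2, 0,
    -1], [1, -1, 1, -2, -1, -2] | yq63]);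
  %[[0, -1, -1, 0, -1, -1], [2, 1, -1, -1, 1, 2], [0, 1, 0, 0, 1, 0], [0, -2, 1, 0, 1, -2], [1, -1, 1, 1, -1, 1],
    [-1, 1, -1, -1, -2, -1], [1, -1, -2, -2, -1, 1] | yq62])))
  B := [2, 3, 5, 7]
  c := 3
  q₀ := 2

theorem okE7b : torE7b.ok tyE7 = true := by (first | (rewrite [Cfsg.Agent.KO7ce1ea2.e44]; decide +kernel) | decide +kernel)

theorem copE7 : copOK torE7a.Gt torE7b.Gt [1, 1, 1]
    [1, -1, 1] = true := by decide +kernel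

def tyE8 : Ty where
  l := 8
  Am := (beta% delta% lq26b1ef3c63 fun a b _ =>
 (a (a 2<|a 0<|a (-1)<|a 0<|a 0<|a 0<|a 0<|a 0<|b)<|a (a 0<|a 2<|a 0<|a (-1)<|a 0<|a 0<|a 0<|a 0<|b)<|a (a (-1)<|a 0<|a 2<|a (-1)<|a 0<|a 0<|a 0<|a 0<|b)<|a (a 0<|a (-1)<|a (-1)<|a 2<|a (-1)<|a 0<|a 0<|a 0<|b)<|a (a 0<|a 0<|a 0<|a (-1)<|a 2<|a (-1)<|a 0<|a 0<|b)<|a (a 0<|a 0<|a 0<|a 0<|a (-1)<|a 2<|a (-1)<|a 0<|b)<|a (a 0<|a 0<|a 0<|a 0<|a 0<|a (-1)<|a 2<|a (-1)<|b)<|a (a 0<|a 0<|a 0<|a 0<|a 0<|a 0<|a (-1)<|a 2<|b)<|b))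
  pi := [0, 1, 2, 3, 4, 5, 6, 7]
  c := [1, 1, 1, 1, 1, 1, 1, 1]
  L :=
    (let yq64 : List (List ℤ) := (let yq65 : List (List ℤ) := (let yq66 : List (List ℤ) := (let yq67 : List (List ℤ) := (let yq68 : List (List ℤ) := %[[0, 0, 0, 0, 1, -1, 0, 0], [0, 0, 0, 0, 0, 1, -1, 0], [0, 0, 0, 0, 0, 0, 1, -1], [0, 0, 0,
    0, 0, 0, 0, 1] | []];
  %[[1, 1, -1, 0, 0, 0, 0, 0], [0, -1, 1, 0, 0, 0, 0, 0], [0, 1, 1, -1, 0, 0, 0, 0], [0, 0,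
    0, 1, -1, 0, 0, 0] | yq68]);
  %[[0, 0, -1, 0, 1, 0, 0, 0], [1, 0, 0, 0, -1, 1, 0, 0], [-1,
    0, 1, -1, 1, 0, 0, 0], [1, 0, 0, -1, 1, 0, 0, 0], [-1, -1, 0, 1, 0, 0, 0, 0], [1, -1, -1, 1, 0, 0, 0, 0], [-1,
    1, 0, 0, 0, 0, 0, 0] | yq67]);
  (let yq69 : type_of% yq66 := (let yq70 : type_of% yq66 := %[[-1, 0, 1, 0, 0, -1, 1, 0], [0, 0, -1, 1, -1, 1, 0, 0], [1,
    0, 0, 0, 0, -1, 1, 0], [-1, 0, 1, 0, -1, 1, 0, 0] | yq66];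
  %[[-1, 0, 1, 0, 0, 0, -1, 1], [0, 0, -1, 1, 0, -1, 1, 0], [0,
    1, 0, -1, 0, 1, 0, 0], [1, 0, 0, 0, 0, 0, -1, 1] | yq70]);
  %[[0, 1, 0, 0, -1, 0, 1, 0], [0,
    -1, 0, 0, 1, -1, 1, 0], [-1, 0, 1, 0, 0, 0, 0, -1], [0, 0, -1, 1, 0, 0, -1, 1], [0, 1, 0, -1, 1, -1, 1, 0], [0,
    -1, 0, 0, 0, 1, 0, 0], [1, 0, 0, 0, 0, 0, 0, -1] | yq69]));
  (let yq71 : type_of% yq65 := (let yq72 : type_of% yq65 := (let yq73 : type_of% yq65 := %[[0, -1, 0, 0, 1, 0, -1, 1], [0,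
    -1, 0, 1, -1, 0, 1, 0], [0, 0, -1, 1, 0, 0, 0, -1], [0, 1, 0, -1, 1, 0, -1, 1] | yq65];
  %[[0, -1, 0, 1, -1, 1, -1, 1], [0,
    0, 1, -1, 0, 0, 1, 0], [0, 1, 0, -1, 1, 0, 0, -1], [0, 1, 0, 0, -1, 1, -1, 1] | yq73]);
  %[[0,
    -1, 0, 1, -1, 1, 0, -1], [0, -1, 0, 1, 0, -1, 0, 1], [0, 0, 1, -1, 0, 1, -1, 1], [1, 0, -1, 0, 0, 0, 1, 0], [0,
    1, 0, 0, -1, 1, 0, -1], [0, 1, 0, 0, 0, -1, 0, 1], [0, -1, 0, 0, 1, 0, 0, -1] | yq72]);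
  (let yq74 : type_of% yq71 := (let yq75 : type_of% yq71 := %[[0,
    0, 1, -1, 1, -1, 0, 1], [1, 0, -1, 0, 0, 1, -1, 1], [-1, 0, 0, 0, 0, 0, 1, 0], [0, 1, 0, 0, 0, -1, 1, -1] | yq71];
  %[[-1,
    0, 0, 0, 0, 1, -1, 1], [0, 1, 0, 0, 0, 0, -1, 0], [0, -1, 0, 1, 0, -1, 1, -1], [0, 0, 1, -1, 0, 1, 0, -1] | yq75]);
  %[[-1, 0, 0, 0, 0, 1, 0, -1], [-1, 0, 0, 0, 1, -1, 0, 1], [0, -1, 0, 1, 0, 0, -1, 0], [0, 0,
    1, -1, 1, -1, 1, -1], [0, 0, 1, 0, -1, 0, 0, 1], [1, 0, -1, 0, 0, 1, 0, -1], [1, 0, -1, 0, 1, -1, 0, 1] | yq74])));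
  (let yq76 : type_of% yq64 := (let yq77 : type_of% yq64 := (let yq78 : type_of% yq64 := (let yq79 : type_of% yq64 := %[[0, 0, 1, -1, 1, 0, -1, 0], [0, 0, 1, 0, -1, 0, 1, -1], [1, 0, -1, 0, 1, -1, 1, -1], [1, 0,
    -1, 1, -1, 0, 0, 1] | yq64];
  %[[1, 0, -1, 1, -1, 0, 1, -1], [1, 1, 0, -1, 0, 0, 0, 1], [-1, 0, 0, 0, 1, -1, 1, -1], [-1, 0,
    0, 1, -1, 0, 0, 1] | yq79]);
  %[[1, 1, 0, -1, 0, 0, 1, -1], [1, -1, 0, 0, 0, 0, 0, 1], [-1, 0, 0, 0,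
    1, 0, -1, 0], [-1, 0, 0, 1, -1, 0, 1, -1], [-1, 1, 1, -1, 0, 0, 0, 1], [0, 0, 1, 0, -1, 1, -1, 0], [1, 0, -1,
    0, 1, 0, -1, 0] | yq78]);
  (let yq80 : type_of% yq77 := (let yq81 : type_of% yq77 := %[[0, 1, -1, 0, 0, 0, 0, 1], [-1, -1, 1, 0, 0, 0, 0, 1], [0, 0, 1, 0,
    0, -1, 0, 0], [1, 0, -1, 1, -1, 1, -1, 0] | yq77];
  %[[1, 1, 0, -1, 0, 1, -1, 0], [1, -1, 0, 0, 0, 0, 1, -1], [-1, 0, 0, 1,
    -1, 1, -1, 0], [-1, 1, 1, -1, 0, 0, 1, -1] | yq81]);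
  %[[1, -1, 0, 0, 0, 1, -1, 0], [-1, 0, 0, 1, 0,
    -1, 0, 0], [-1, 1, 1, -1, 0, 1, -1, 0], [0, 1, -1, 0, 0, 0, 1, -1], [-1, -1, 1, 0, 0, 0, 1, -1], [0, -1, -1, 1,
    0, 0, 0, 1], [1, 0, -1, 1, 0, -1, 0, 0] | yq80]));
  (let yq82 : type_of% yq76 := (let yq83 : type_of% yq76 := (let yq84 : type_of% yq76 := %[[-1, -1, 1, 0, 0, 1, -1, 0], [0, -1, -1, 1, 0,
    0, 1, -1], [0, 0, 0, -1, 1, 0, 0, 1], [1, 1, 0, -1, 1, -1, 0, 0] | yq76];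
  %[[1, 1, 0, 0, -1, 0, 0, 0], [1, -1, 0, 0, 1, -1,
    0, 0], [-1, 1, 1, -1, 1, -1, 0, 0], [0, 1, -1, 0, 0, 1, -1, 0] | yq84]);
  %[[1, -1, 0, 1, -1, 0, 0,
    0], [-1, 1, 1, 0, -1, 0, 0, 0], [0, 1, -1, 0, 1, -1, 0, 0], [-1, -1, 1, 0, 1, -1, 0, 0], [0, -1, -1, 1, 0, 1,
    -1, 0], [0, 0, 0, -1, 1, 0, 1, -1], [0, 0, 0, 0, -1, 1, 0, 1] | yq83]);
  (let yq85 : type_of% yq82 := (let yq86 : type_of% yq82 := %[[0, -1, -1, 1, 1, -1, 0,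
    0], [0, 0, 0, -1, 1, 1, -1, 0], [0, 0, 0, 0, -1, 1, 1, -1], [0, 0, 0, 0, 0, -1, 1, 1] | yq82];
  %[[0, 0, 0, 0, 0, 0, -1, 2],
    [1, 0, 1, -1, 0, 0, 0, 0], [0, 1, -1, 1, -1, 0, 0, 0], [-1, -1, 1, 1, -1, 0, 0, 0] | yq86]);
  %[[2, 0, -1, 0, 0, 0, 0, 0], [0, 2, 0, -1, 0, 0, 0, 0], [-1, 0, 2, -1, 0, 0, 0, 0], [0, -1, -1, 2, -1, 0, 0, 0],
    [0, 0, 0, -1, 2, -1, 0, 0], [0, 0, 0, 0, -1, 2, -1, 0], [0, 0, 0, 0, 0, -1, 2, -1] | yq85]))))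

theorem okE8 : tyE8.ok = true := by (first | (rewrite [Cfsg.Agent.KO7ce1ea2.e22]; decide +kernel) | decide +kernel)

def torE8a : Tor where
  wd := [2, 7, 1, 6, 3, 5, 0, 4]
  Gt := [1, 0, -1, -1, -1, 0, 1, 1]
  gt := [1, 0, -1, -1, -1, 0, 1, 1]
  e := [1, 0, 0, 0, 0, 0, 0, 0]
  xs :=
    (beta% delta% lq26b1ef3c63 fun a b _ =>
 (a (a 1<|a 0<|a 0<|a 0<|a 0<|a 0<|a 0<|a 0<|b)<|a (a 0<|a 0<|a (-1)<|a 0<|a 0<|a 0<|a 0<|a 0<|b)<|a (a (-1)<|a (-1)<|a (-1)<|a (-1)<|a 0<|a 0<|a 0<|a 0<|b)<|a (a (-1)<|a (-1)<|a (-1)<|a (-2)<|a (-1)<|a (-1)<|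
 a (-1)<|a (-1)<|b)<|a (a (-1)<|a (-1)<|a (-1)<|a (-2)<|a (-2)<|a (-2)<|a (-2)<|a (-1)<|b)<|a (a (-1)<|a (-1)<|a (-1)<|a (-2)<|a (-2)<|a (-2)<|a (-1)<|a 0<|b)<|a (a 0<|a (-1)<|a (-1)<|a (-2)<|a (-2)<|a (-1)<|a 0<|a 0<|b)<|a (a 0<|
 a 0<|a (-1)<|a (-1)<|a (-1)<|a 0<|a 0<|a 0<|b)<|b))
  Us :=
    (let yq87 : List (List ℤ) := (let yq88 : List (List ℤ) := (let yq89 : List (List ℤ) := (let yq90 : List (List ℤ) := (let yq91 : List (List ℤ) := %[[1, 0, 0, -1, 0, -1, 1, 0], [0, 1, 0, 0,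
    -1, 0, -1, 1], [-1, -1, 1, 1, 1, 0, 0, -2], [2, 1, -1, -1, -1, -1, 0, 2] | []];
  %[[1, 0, 0, -1, 0, 0, 0, 0], [0, 1, 0, 0, -1,
    0, 0, 0], [2, 0, 0, -1, -1, -1, 1, 1], [-2, 0, 1, 1, 1, 1, -1, -2] | yq91]);
  %[[1, 0, 0, -1, 0,
    -1, 0, 1], [0, 0, 0, 1, 0, 0, -1, 0], [3, 0, 0, -2, -1, -2, 1, 2], [1, 0, 0, 0, -1, -1, 0, 1], [-1, 0, 0, 1, 1,
    0, -1, -1], [-1, 0, 0, 1, 0, 1, -1, -1], [0, 0, 1, 0, 0, -1, 0, 0] | yq90]);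
  (let yq92 : type_of% yq89 := (let yq93 : type_of% yq89 := %[[0, 0, 0, 0, 1, 0,
    0, -1], [-2, 1, 0, 2, 0, 1, -2, -1], [1, -1, 1, -1, 1, -1, 1, -1], [-1, 1, 0, 1, 0, 0, -1, 0] | yq89];
  %[[1, 2, -1, 0, -2, 0,
    -1, 2], [-1, 0, 1, 0, 1, 0, -1, -1], [0, 0, 1, 0, 0, 0, -1, 0], [1, 0, 0, 0, -1, 0, 0, 0] | yq93]);
  %[[0, -1, 1, 0, 1, 0, 0, -1], [-2, -1, 1, 1, 2, 0, 0, -3], [0, 1, 0, 0, 0, -1, 0, 0], [3, 1, -1, -2, -2, -1, 0,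
    3], [1, 0, 0, 0, 0, -1, 0, 0], [1, 1, -1, 0, -1, -1, 0, 1], [-3, 0, 1, 2, 1, 1, -1, -3] | yq92]));
  (let yq94 : type_of% yq88 := (let yq95 : type_of% yq88 := (let yq96 : type_of% yq88 := %[[1,
    1, -1, -1, -1, 0, 0, 1], [0, 0, 0, 1, 0, 0, 0, -1], [-1, 0, 1, 0, 0, 0, 0, -1], [1, 1, 0, -1, -1, -1, 0, 1] | yq88];
  %[[0, 1,
    0, 0, 0, 0, -1, 0], [3, 1, -1, -1, -2, -1, 0, 3], [0, -1, 1, 0, 0, 0, 0, -1], [1, 1, 0, -1, -1, 0, 0, 1] | yq96]);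
  %[[-1, 0, 1, 1, 0, 0, -1, -1], [-1, 1, 0, 1, 0, 0, -1, -1], [1, 1, 0, 0, -1, -1, 0, 1], [2, 0, 0,
    -1, -1, -1, 0, 1], [-2, -1, 2, 1, 2, 0, 0, -3], [1, 1, 0, -1, 0, -1, 0, 1], [-1, 0, 0, 1, 0, 0, 0, -1] | yq95]);
  (let yq97 : type_of% yq94 := (let yq98 : type_of% yq94 := %[[2, 1, 0, -1, -1, -1, 0, 1], [0, 0, 0, 0, 0, 0, -1, 0], [0, 0, 1, 0, 1, -1, 0, -1], [0, 0, 1, 0,
    0, 0, 0, -1] | yq94];
  %[[1, 1, 0, 0, -1, -1, -1, 1], [1, 0, 1, -1, 0, -1, 0, 0], [0, 0, 0, 0, 0, 0, 0, -1], [0, 1, 0, 1,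
    -1, 0, -1, 0] | yq98]);
  %[[-2, 0, 1, 1, 1, 0, -1, -2], [1, 0, 0, -1, 0, -1, 0, 0], [-1, 1, 0, 0, 0,
    0, -1, 0], [0, 0, 1, 0, 0, -1, 0, -1], [1, 1, -1, 0, -1, 0, 0, 1], [1, 1, -1, 0, -2, 0, -1, 2], [2, 0, -1, -1,
    -1, -1, 1, 1] | yq97])));
  (let yq99 : type_of% yq87 := (let yq100 : type_of% yq87 := (let yq101 : type_of% yq87 := (let yq102 : type_of% yq87 := %[[2, 1, -1, -1, -2, -1, 0, 2], [-1, 0, 1, 1, 0, 0, 0, -1], [0, -1, 0, 0, 1, 0,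
    0, -1], [1, 1, 0, 0, -1, 0, -1, 1] | yq87];
  %[[-1, 0, 1, 1, 1, 0, -1, -2], [1, 0, 0, 0, 0, 0, 0, 0], [0, 0, 0, 0, 0, -1, 0,
    0], [-3, 0, 1, 2, 2, 1, -1, -3] | yq102]);
  %[[1, 0, 1, 0, 0, -1, 0, 0], [1, 1, 0, 0, -1, -1, -1, 0],
    [0, -1, 1, -1, 1, -1, 1, -1], [-1, 0, 1, 1, 1, 0, -1, -1], [1, 0, 0, 0, 0, -1, 0, 1], [-1, 0, 1, 1, 0, 1, -1,
    -1], [1, 0, 0, -1, -1, 0, 0, 1] | yq101]);
  (let yq103 : type_of% yq100 := (let yq104 : type_of% yq100 := %[[1, 1, 1, 0, 0, -1, -1, 0], [0, 1, 0, 1, 0, 0, -1, 0],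
    [-1, 0, 1, 1, 1, 0, 0, -2], [0, 1, 0, 0, -1, 0, -1, 0] | yq100];
  %[[1, 1, 1, 0, -1, -1, -1, 0], [-1, 0, 0, 1, 0, 0, -1, -1],
    [-1, 1, 1, 1, 0, 0, -1, -1], [1, 0, 0, 0, 0, -1, 1, 0] | yq104]);
  %[[0, 0, 0, 0, -1, 0, 0, 0], [0, 1, 1, 0,
    0, -1, -1, -1], [2, 1, 0, -1, -1, -1, 0, 2], [0, 0, 1, 0, 0, -1, -1, -1], [0, 1, 1, 1, 0, -1, -1, -1], [0, 1,
    -1, 0, -1, 0, -1, 1], [-1, -1, 1, 0, 1, 0, 0, -2] | yq103]));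
  (let yq105 : type_of% yq99 := (let yq106 : type_of% yq99 := (let yq107 : type_of% yq99 := %[[0, 1, 0, 0, -1, -1, -1, 0], [-2, -1, 1, 1, 1,
    1, -1, -2], [1, 0, -1, -1, -1, -1, 0, 1], [1, 0, 0, -1, -1, -1, 0, 0] | yq99];
  %[[3, 0, 0, -2, -1, -1, 1, 2], [-1, 1, -1, 1, -1, 1,
    -1, 0], [1, 1, 1, 0, 0, -1, 0, 0], [1, 0, 0, -1, -1, -1, 0, 1] | yq107]);
  %[[0, 1, 1, 1, 0, 0, -1,
    -1], [-1, 0, 1, 0, 1, 0, 0, -1], [0, 0, 0, -1, 0, 0, 0, 0], [-1, 0, 0, 0, 0, 0, 0, -1], [-1, 0, 0, 1, 0, 0, -1,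
    0], [1, -1, 0, -1, 0, -1, 1, 0], [0, 1, 0, 0, 0, 0, -1, 1] | yq106]);
  (let yq108 : type_of% yq105 := (let yq109 : type_of% yq105 := %[[-1, 0, 0, 0, 1, 0, 0, -1],
    [1, 1, -1, -1, -1, -1, 0, 2], [-2, 0, 1, 2, 1, 1, -1, -2], [2, 0, 0, -1, 0, -1, 1, 1] | yq105];
  %[[1, 1, 0, 0, 0, 0, 0,
    1], [1, 1, 0, 0, -1, 0, 0, 1], [0, 0, 1, 0, 1, 0, 0, -1], [0, 1, 0, 0, 0, 0, 0, 0] | yq109]);
  %[[1, 0, -1, -1, -1, 0, 0, 1], [0, 0, 1, 0, 0, 0, 0, 0], [-2, 1, 0, 2, 0, 1, -1, -1], [-1, 0, 0, 0, 0, 0, -1,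
    -1], [1, 0, 0, -1, -1, -1, 1, 1], [0, 1, 1, 1, 0, 0, -1, 0], [0, 0, 1, 1, 1, 0, 0, -1] | yq108]))))
  B := [2, 3, 5, 7]
  c := 1
  q₀ := 2

theorem okE8a : torE8a.ok tyE8 = true := by (first | (rewrite [Cfsg.Agent.KO7ce1ea2.e44]; decide +kernel) | decide +kernel)

def torE8b : Tor where
  wd := [1, 5, 2, 6, 0, 3, 4, 7, 1, 3]
  Gt := [0, 0, 0, -1, 0, 0, 0, 1]
  gt := [0, 0, 0, -1, 0, 0, 0, 1]
  e := [1, 0, 0, 0, 0, 0, 0, 0]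
  xs :=
    (beta% delta% lq26b1ef3c63 fun a b _ =>
 (a (a 1<|a 0<|a 0<|a 0<|a 0<|a 0<|a 0<|a 0<|b)<|a (a (-1)<|a 0<|a (-1)<|a 0<|a 0<|a 0<|a 0<|a 0<|b)<|a (a 0<|a (-1)<|a (-1)<|a (-2)<|a (-1)<|a (-1)<|a 0<|a 0<|b)<|a (a (-1)<|a (-1)<|a (-1)<|a (-1)<|a (-1)<|a (-1)<|
 a (-1)<|a 0<|b)<|a (a (-1)<|a (-1)<|a (-1)<|a (-2)<|a (-2)<|a (-2)<|a (-1)<|a (-1)<|b)<|a (a 0<|a (-1)<|a (-1)<|a (-2)<|a (-2)<|a (-1)<|a (-1)<|a 0<|b)<|a (a (-1)<|a 0<|a (-1)<|a (-1)<|a (-1)<|a (-1)<|a (-1)<|a (-1)<|b)<|a (a 0<|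
 a (-1)<|a (-1)<|a (-2)<|a (-1)<|a 0<|a 0<|a 0<|b)<|b))
  Us :=
    (let yq110 : List (List ℤ) := (let yq111 : List (List ℤ) := (let yq112 : List (List ℤ) := (let yq113 : List (List ℤ) := (let yq114 : List (List ℤ) := %[[0, 1, 0, -1, 0, 0, 0, 0], [0, 0, 0,
    0, 1, 0, -1, 0], [0, 0, 0, 1, 0, -1, 0, 0], [0, 0, 1, 0, -1, 0, 0, 0] | []];
  %[[-1, 0, 1, 0, 0, 1, -1, -1], [1, 1, -1,
    0, 0, -1, 0, 1], [0, 0, 0, 0, 0, 1, 0, -1], [1, -1, 0, 1, -1, 0, 1, -1] | yq114]);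
  %[[0, 1, 0, -1, 1, -1,
    -1, 1], [2, -1, -1, 2, -1, 0, 1, -1], [-1, 1, 1, -1, 1, 0, -1, 0], [-1, 2, 1, -1, 1, -1, -2, 1], [2, 1, -1, 0,
    -1, -2, 1, 1], [1, 0, -1, 0, 0, 0, 0, 0], [-1, -1, 2, 1, 0, 1, -1, -2] | yq113]);
  (let yq115 : type_of% yq112 := (let yq116 : type_of% yq112 := %[[1, 0, 1, 1, -2, 0, 1,
    -2], [2, -1, 0, 2, -1, -1, 0, -1], [1, -1, 0, 1, -2, 1, 1, -2], [1, 0, 0, 0, -1, 0, 1, 0] | yq112];
  %[[0, 1, 2, -1, 0, 1, -1, -1],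
    [0, -1, 0, 1, 0, 0, 0, -1], [0, -1, 1, 1, -1, 1, 0, -1], [0, 1, 1, -1, 0, 1, -2, -1] | yq116]);
  %[[0, 0, 0,
    1, 0, 0, 0, -1], [1, 0, -1, 1, -1, -1, 1, 0], [1, 2, -1, -1, 1, -1, 0, 1], [-1, 0, 1, -1, 1, 1, -2, -1], [-1,
    0, 2, 1, -1, 0, -1, -2], [2, 1, 0, 1, -1, -2, 0, 1], [1, 2, -1, 0, 1, -1, -1, 0] | yq115]));
  (let yq117 : type_of% yq111 := (let yq118 : type_of% yq111 := (let yq119 : type_of% yq111 := %[[0, 2, 1,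
    -2, 0, -1, -2, 1], [1, 0, 0, 0, -1, 0, 0, 0], [1, 1, -1, 0, 1, -2, -1, 0], [0, 0, 1, 0, 0, 0, -1, 0] | yq111];
  %[[2, 0, -1, 1,
    -1, -1, 1, 0], [1, 0, 1, 2, -2, 0, 1, -1], [-1, 2, 1, 0, 2, -1, -2, 0], [0, -1, 2, 1, 0, 2, -1, -2] | yq119]);
  %[[1, 0, 0, 0, 0, 0, 0, 0], [0, -1, 1, 0, -1, 1, 0, -1], [-1, 1, 2, -1, 0, 1, -1, 0], [1, -1, 0, 2,
    -2, -1, 0, -1], [1, 0, -1, 1, 0, -1, 1, 0], [0, 0, 0, 0, 0, 0, 0, -1], [0, 1, 0, 0, 0, -1, 0, 0] | yq118]);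
  (let yq120 : type_of% yq117 := (let yq121 : type_of% yq117 := %[[0, 1, 1, 0, -1, 0, -1, -1], [-1, 1, 1, -1, 1, 0, -2, 0], [1, 0, 1, 1, -1, -1, 0, -1], [0, -1, 1, 1, -1,
    1, 0, -2] | yq117];
  %[[-1, 0, 2, 0, 0, 1, -1, -1], [0, 1, 1, 0, 1, 0, -1, -1], [2, 1, -2, 0, -1, -2, 1, 0], [0, 1, 0, 0, 0, -1,
    0, 1] | yq121]);
  %[[1, 1, 0, 1, 1, -2, 0, 1], [-1, 0, 2, -1, -1, 0, -1, -1], [1, 1, 0, -1, 0, -1, -1, 0],
    [0, 2, 0, -1, 1, -1, -1, 1], [1, 0, 1, 1, -1, 1, 0, -1], [1, 1, 0, 1, 0, -1, -1, 0], [-1, 0, 1, 0, 0, 0, -1,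
    0] | yq120])));
  (let yq122 : type_of% yq110 := (let yq123 : type_of% yq110 := (let yq124 : type_of% yq110 := (let yq125 : type_of% yq110 := %[[0, 1, 0, 0, 0, 0, 0, 0], [2, 0, -1, 2, -1, 0, 2, -1], [0, 1, -1, 0, 1, -2, -1, 1], [1,
    -2, 0, 1, -2, 1, 0, -2] | yq110];
  %[[1, 0, -1, 1, -1, -1, 0, -1], [0, 0, 1, 1, 0, 0, -1, -1], [1, 1, -1, 0, 0, -2, 0, 1], [1,
    0, 0, 0, -1, 0, 0, -1] | yq125]);
  %[[1, -1, 0, 2, -1, 0, 1, -1], [1, -1, 0, 1, -2, 0, 1, -1], [0,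
    1, 1, 0, 0, -1, -1, 0], [1, 0, 0, 1, 0, 0, 0, -1], [0, 0, 1, 0, 0, 0, 0, 0], [0, 1, 0, -1, 1, 0, -1, 1], [0, 0,
    0, 0, 0, 0, -1, 0] | yq124]);
  (let yq126 : type_of% yq123 := (let yq127 : type_of% yq123 := %[[0, -1, 1, 0, -1, 0, -1, -1], [1, 0, 1, 1, -1, 0, 0, -1], [0, 1,
    1, 0, 0, 0, -1, -1], [1, 1, 0, 0, 0, -1, -1, 0] | yq123];
  %[[-1, 1, 1, 0, 2, 1, -2, 0], [1, 1, 0, 0, -1, -1, 0, 0], [1, 1, -1,
    0, 1, -1, 0, 1], [0, -1, 1, 2, -1, 0, 1, -1] | yq127]);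
  %[[1, 1, 0, 0, 0, 0, 0, 0], [-1, 0, 1, -1, 0,
    1, -1, -1], [-1, 0, 1, 0, 1, 0, -1, 0], [1, 0, 0, 1, -1, -1, 0, -1], [1, 1, 0, 1, 0, -1, 1, 0], [1, -1, 0, 1,
    -2, -1, 1, 0], [-1, 1, 0, -1, 1, 0, -1, 0] | yq126]));
  (let yq128 : type_of% yq122 := (let yq129 : type_of% yq122 := (let yq130 : type_of% yq122 := %[[1, 2, 0, -1, 1, -1, 0, 2], [0, 0, 0, 0, 0,
    -1, 0, 0], [0, 0, 1, 0, -1, 0, -1, -1], [0, 0, 0, 0, 0, 0, -1, -1] | yq122];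
  %[[0, 0, 1, 1, 0, 1, 0, -1], [0, 2, -1, -2,
    0, -1, -1, 1], [0, 1, 1, 0, 0, 0, 0, 0], [0, 1, 1, 0, 1, 0, -1, 0] | yq130]);
  %[[1, 0, -1, 0, -1,
    -1, 0, 0], [0, -1, 1, 1, 0, 2, 1, -2], [-2, 0, 1, -1, 1, 0, -2, -1], [0, 1, 0, -1, 0, -1, -1, 0], [0, 0, 0, 0,
    0, -1, -1, 0], [1, 1, 0, 1, 0, -1, 0, 0], [0, 0, 1, 1, 0, 0, 0, 0] | yq129]);
  (let yq131 : type_of% yq128 := (let yq132 : type_of% yq128 := %[[0, 1, 0, -1, 0,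
    -1, 0, 1], [0, 1, 1, 0, 1, 0, -1, 1], [0, 0, 0, 1, 0, 0, 0, 0], [0, 0, 0, 0, -1, 0, 0, 0] | yq128];
  %[[0, 0, 0, -1, -1,
    0, 0, 0], [-1, 1, 1, -1, 1, 1, -1, 0], [0, -1, 0, 0, -1, 0, 0, -1], [1, 0, 0, 1, 0, 0, 1, 0] | yq132]);
  %[[0, 1, -1, -1, 1, -1, -1, 1], [-1, 0, 1, 1, 1, 1, 0, -1], [-1, 0, 1, 0, 0, 1, 0, -1], [2, -1, -2, 0, -1, -1,
    1, 0], [-1, 1, 0, -1, 0, -1, -1, 0], [1, 0, -1, 1, 1, -1, 0, 1], [0, 0, 0, 0, -1, -1, 0, 0] | yq131]))))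
  B := [2, 3, 5, 7]
  c := 1
  q₀ := 2

theorem okE8b : torE8b.ok tyE8 = true := by (first | (rewrite [Cfsg.Agent.KO7ce1ea2.e44]; decide +kernel) | decide +kernel)

theorem copE8 : (beta% delta% lq26b1ef3c63 fun a b c =>
 c torE8a.Gt torE8b.Gt (a 0<|a (-1)<|a 0<|a 0<|a 0<|a 1<|a 0<|a 1<|b)
 (a 1<|a 1<|a 1<|a 0<|a 0<|a (-1)<|a (-1)<|a (-1)<|b) :
 Bool) = true := by decide +kernel

def tyTE6 : Ty where
  l := 6
  Am := (beta% delta% lq26b1ef3c63 fun a b _ =>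
 (a (a 2<|a 0<|a (-1)<|a 0<|a 0<|a 0<|b)<|a (a 0<|a 2<|a 0<|a (-1)<|a 0<|a 0<|b)<|a (a (-1)<|a 0<|a 2<|a (-1)<|a 0<|a 0<|b)<|a (a 0<|a (-1)<|a (-1)<|a 2<|a (-1)<|a 0<|b)<|a (a 0<|a 0<|a 0<|a (-1)<|a 2<|a (-1)<|b)<|a (a 0<|a 0<|a 0<|a 0<|a (-1)<|a 2<|b)<|b))
  pi := [5, 1, 4, 3, 2, 0]
  c := [1, 1, 1, 1, 1, 1]
  L :=
    (let yq133 : List (List ℤ) := (let yq134 : List (List ℤ) := (let yq135 : List (List ℤ) := %[[0, 0, 1, 0, -1, 1], [1, 0, -1, 0, 1, 0], [0, 0, 1, -1, 1, 0], [0, -1, 0, 1, 0, 0], [0, 1,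
    0, 0, 0, 0] | []];
  %[[-1, 0, 0, 1, -1, 1], [0, 0, 1, 0, 0, -1], [1, 0, -1, 1, -1, 1],
    [-1, 0, 0, 0, 1, 0] | yq135]);
  (let yq136 : type_of% yq134 := %[[1, -1, 0, 0, 0, 1], [-1, 0, 0, 1, 0, -1], [-1, 1, 1, -1, 0, 1],
    [1, 0, -1, 1, 0, -1], [1, 1, 0, -1, 0, 1] | yq134];
  %[[-1, 1, 1, -1, 1, -1], [0, 1, -1, 0, 0, 1],
    [-1, -1, 1, 0, 0, 1], [1, 1, 0, -1, 1, -1] | yq136]));
  (let yq137 : type_of% yq133 := (let yq138 : type_of% yq133 := %[[0, 1, -1, 0, 1, -1], [-1, -1, 1, 0, 1, -1],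
    [0, -1, -1, 1, 0, 1], [1, 1, 0, 0, -1, 0], [1, -1, 0, 0, 1, -1] | yq133];
  %[[0, -1, -1, 1, 1, -1],
    [0, 0, 0, -1, 1, 1], [1, -1, 0, 1, -1, 0], [-1, 1, 1, 0, -1, 0] | yq138]);
  (let yq139 : type_of% yq137 := %[[0, 0, 0, -1, 2, -1],
    [0, 0, 0, 0, -1, 2], [1, 0, 1, -1, 0, 0], [0, 1, -1, 1, -1, 0], [-1, -1, 1, 1, -1, 0] | yq137];
  %[[2, 0, -1, 0, 0, 0], [0, 2, 0, -1, 0, 0], [-1, 0, 2, -1, 0, 0], [0, -1, -1, 2, -1, 0] | yq139])))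

theorem okTE6 : tyTE6.ok = true := by (first | (rewrite [Cfsg.Agent.KO7ce1ea2.e22]; decide +kernel) | decide +kernel)

def torTE6a : Tor where
  wd := [0, 1, 2, 3]
  Gt := [0, 0, -1, 0, 0, 1]
  gt := [0, 0, -1, 0, 0, 1]
  e := [1, 0, 0, 0, 0, 0]
  xs :=
    (beta% delta% lq26b1ef3c63 fun a b _ =>
 (a (a 1<|a 0<|a 0<|a 0<|a 0<|a 0<|b)<|a (a 0<|a 0<|a 0<|a 0<|a 1<|a 0<|b)<|a (a 0<|a 1<|a 1<|a 1<|a 1<|a 1<|b)<|a (a 0<|a 1<|a 1<|a 2<|a 1<|a 1<|b)<|a (a 1<|a 0<|a 1<|a 1<|a 0<|a 0<|b)<|a (a 0<|a 0<|a 0<|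
 a 0<|a 0<|a (-1)<|b)<|b))
  Us :=
    (let yq140 : List (List ℤ) := (let yq141 : List (List ℤ) := (let yq142 : List (List ℤ) := %[[-1, 0, -2, 2, 0, 1], [-1, -2, 2, -1, 1, -1], [-2, 2, -2, 1, -1,
    1], [-2, -1, 1, 1, 2, -2], [2, -2, -1, -1, 1, 2] | []];
  %[[-1, -2, 2, -1, 4, -1], [-1, 1, -1, 2, -2, 2],
    [1, -4, 1, -2, 2, 1], [-1, -1, 0, -1, 2, 0] | yq142]);
  (let yq143 : type_of% yq141 := %[[-2, 0, -1, 1, 0, -1], [1, -1, 1, -2, 2, 1], [-1,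
    1, -4, 2, -2, 2], [0, -2, 1, 0, 1, 1], [1, -1, -2, 1, -1, 1] | yq141];
  %[[1, -1, -2, 1, -1, 4], [1, -2,
    0, -2, 1, 0], [-2, -1, -2, 1, 2, 1], [0, -1, -1, 0, -1, 2] | yq143]));
  (let yq144 : type_of% yq140 := (let yq145 : type_of% yq140 := %[[-1, -2, -1, -1, 1, 2], [-2, 1, 0,
    1, 1, 0], [-1, -2, -1, -1, 1, -1], [-1, -2, -1, 2, 1, 2], [-4, 1, -1, 2, 1, -1] | yq140];
  %[[-2, -1, 1, 1,
    2, 1], [-1, 1, -1, -1, 1, -1], [-2, 2, -2, 4, -1, 1], [1, 0, -1, 1, 0, 2] | yq145]);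
  (let yq146 : type_of% yq144 := %[[-2, -1, 1, -2, 2,
    -2], [-2, 2, -2, 1, -1, -2], [-2, -1, -2, 1, -1, 1], [1, -1, 1, 1, 2, 1], [-1, 1, -1, 2, 1, -1] | yq144];
  %[[2, -2, -1, -1, -2, 2], [1, -1, -2, -2, -1, 1], [-1, 1, -1, 2, 1, 2], [0, -1, 2, 0, 2, -1] | yq146])))
  B := [2, 3, 5, 7]
  c := 3
  q₀ := 2

theorem okTE6a : torTE6a.ok tyTE6 = true := by (first | (rewrite [Cfsg.Agent.KO7ce1ea2.e44]; decide +kernel) | decide +kernel)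

def torTE6b : Tor where
  wd := [2, 5, 0, 3, 1, 2]
  Gt := [-1, 0, 1, 0, -1, 1]
  gt := [0, -1, 0, 1]
  e := [1, 1, 0, 0, 1, 1]
  xs :=
    (beta% delta% lq26b1ef3c63 fun a b _ =>
 (a (a 1<|a 1<|a 0<|a 0<|a 1<|a 1<|b)<|a (a 0<|a (-1)<|a 1<|a 1<|a 0<|a 0<|b)<|a (a (-1)<|a 1<|a 0<|a 1<|a 0<|a (-1)<|b)<|a (a 1<|a 0<|a 0<|a (-1)<|a 0<|a 1<|b)<|b))
  Us :=
    (let yq147 : List (List ℤ) := (let yq148 : List (List ℤ) := (let yq149 : List (List ℤ) := %[[-1, -1, 1, 2], [-1, -1, -1, 0], [-1, -1, 0, 1], [-1,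
    -2, 0, 1], [-2, -1, 1, 1] | []];
  %[[-1, -1,
    1, 1], [-1, -1, 1, 1], [-1, -1, 0, 1], [-1, -1, 0, 0] | yq149]);
  (let yq150 : type_of% yq148 := %[[-2, -3, -1, 1], [-3, -3, 1, 2], [-1, 0, 1, 1], [-1, -1, 0, 0], [-3, -2, 2, 3] | yq148];
  %[[-2, -1, 2, 2], [-2, -2, 0, 1], [-2, -2,
    1, 2], [-2, -2, 0, 1] | yq150]));
  (let yq151 : type_of% yq147 := (let yq152 : type_of% yq147 := %[[-1, -2, -2,
    -1], [-1, -2, -1, 0], [0, -1, -1, 0], [-1, 0, 1, 1], [0, -1, -1, 0] | yq147];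
  %[[0, -1, -1, -1], [0, -1, -2, -1], [-2, -2, 1, 2], [-1, 0, 2, 1] | yq152]);
  (let yq153 : type_of% yq151 := %[[0, 0, -1, -1], [-1, 0, 2, 2], [-1, 0, 2, 2],
    [-2, -1, 2, 2], [-2, -1, 3, 3] | yq151];
  %[[0, -1, -2, -1], [-1, 1, 3, 2], [0, 0, 1, 1], [-1, -2, -1, 0] | yq153])))
  B := [2, 3, 5, 7]
  c := 1
  q₀ := 2

theorem okTE6b : torTE6b.ok tyTE6 = true := by (first | (rewrite [Cfsg.Agent.KO7ce1ea2.e44]; decide +kernel) | decide +kernel)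

theorem copTE6 : (beta% delta% lq26b1ef3c63 fun a b c =>
 c torTE6a.Gt torTE6b.Gt (a 0<|a 2<|a 0<|a 1<|a 0<|a 2<|b)
 (a 3<|a 1<|a 1<|a (-3)<|a (-2)<|a (-2)<|b) :
 Bool) = true := by decide +kernel

def tyTD4 : Ty where
  l := 4
  Am := (beta% delta% lq26b1ef3c63 fun a b _ =>
 (a (a 2<|a (-1)<|a 0<|a 0<|b)<|a (a (-1)<|a 2<|a (-1)<|a (-1)<|b)<|a (a 0<|a (-1)<|a 2<|a 0<|b)<|a (a 0<|a (-1)<|a 0<|a 2<|b)<|b))
  pi := [2, 1, 3, 0]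
  c := [1, 1, 1, 1]
  L :=
    (beta% delta% lq26b1ef3c63 fun a b _ =>
 (a (a 2<|a (-1)<|a 0<|a 0<|b)<|a (a (-1)<|a 2<|a (-1)<|a (-1)<|b)<|a (a 0<|a (-1)<|a 2<|a 0<|b)<|a (a 0<|a (-1)<|a 0<|a 2<|b)<|a (a 1<|a 1<|a (-1)<|a (-1)<|b)<|a (a (-1)<|a 1<|a 1<|a (-1)<|b)<|a (a (-1)<|a 1<|a (-1)<|a 1<|b)<|
 a (a 1<|a 0<|a 1<|a (-1)<|b)<|a (a 1<|a 0<|a (-1)<|a 1<|b)<|a (a (-1)<|a 0<|a 1<|a 1<|b)<|a (a 1<|a (-1)<|a 1<|a 1<|b)<|a (a 0<|a 1<|a 0<|a 0<|b)<|b))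

theorem okTD4 : tyTD4.ok = true := by decide +kernel

def torTD4a : Tor where
  wd := [0, 1]
  Gt := [0, -1, 0, 1]
  gt := [0, -1, 0, 1]
  e := [1, 0, 0, 0]
  xs :=
    (beta% delta% lq26b1ef3c63 fun a b _ =>
 (a (a 1<|a 0<|a 0<|a 0<|b)<|a (a 0<|a 1<|a 0<|a 0<|b)<|a (a (-1)<|a (-1)<|a 0<|a (-1)<|b)<|a (a 0<|a (-1)<|a (-1)<|a 0<|b)<|b))
  Us :=
    (beta% delta% lq26b1ef3c63 fun a b _ =>
 (a (a (-1)<|a (-1)<|a (-1)<|a 0<|b)<|a (a (-1)<|a (-2)<|a 0<|a 1<|b)<|a (a 1<|a 1<|a (-1)<|a (-2)<|b)<|a (a 1<|a 1<|a (-1)<|a 0<|b)<|a (a 0<|a (-1)<|a (-1)<|a 1<|b)<|a (a 0<|a (-1)<|a (-1)<|a (-1)<|b)<|a (a 2<|a 1<|a (-1)<|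
 a (-1)<|b)<|a (a (-1)<|a 0<|a 0<|a (-1)<|b)<|a (a 1<|a 0<|a (-2)<|a (-1)<|b)<|a (a 1<|a 0<|a 0<|a (-1)<|b)<|a (a 0<|a 1<|a (-1)<|a (-1)<|b)<|a (a 1<|a (-1)<|a (-1)<|a 0<|b)<|b))
  B := [2, 3, 5]
  c := 1
  q₀ := 2

theorem okTD4a : torTD4a.ok tyTD4 = true := by decide +kernel

def torTD4b : Tor where
  wd := [1, 0, 1, 3, 2, 1, 2, 0]
  Gt := [1, 1]
  gt := [1, 1]
  e := [1, 0, 0, 0]
  xs :=
    [[1, 0, 0, 0], [0, -1, -1, -1]]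
  Us :=
    (beta% delta% lq26b1ef3c63 fun a b _ =>
 (a (a (-2)<|a (-1)<|b)<|a (a 1<|a 1<|b)<|a (a 0<|a (-1)<|b)<|a (a 0<|a (-1)<|b)<|a (a (-1)<|a 0<|b)<|a (a 1<|a 0<|b)<|a (a 1<|a 0<|b)<|a (a (-1)<|a (-1)<|b)<|a (a (-1)<|a (-1)<|b)<|a (a 1<|a (-1)<|b)<|a (a (-1)<|a (-2)<|b)<|a (a 0<|a (-1)<|b)<|b))
  B := [2, 3, 5]
  c := 3
  q₀ := 2

theorem okTD4b : torTD4b.ok tyTD4 = true := by decide +kernel

theorem copTD4 : copOK torTD4a.Gt torTD4b.Gt [0, -1]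
    [2, -1, -1, 1] = true := by decide +kernel

def tyTF4 : Ty where
  l := 4
  Am := (beta% delta% lq26b1ef3c63 fun a b _ =>
 (a (a 2<|a (-1)<|a 0<|a 0<|b)<|a (a (-1)<|a 2<|a (-2)<|a 0<|b)<|a (a 0<|a (-1)<|a 2<|a (-1)<|b)<|a (a 0<|a 0<|a (-1)<|a 2<|b)<|b))
  pi := [3, 2, 1, 0]
  c := [2, 2, 1, 1]
  L :=
    (beta% delta% lq26b1ef3c63 fun a b _ =>
 (a (a 2<|a (-1)<|a 0<|a 0<|b)<|a (a (-1)<|a 2<|a (-2)<|a 0<|b)<|a (a 0<|a (-1)<|a 2<|a (-1)<|b)<|a (a 0<|a 0<|a (-1)<|a 2<|b)<|a (a 1<|a 1<|a (-2)<|a 0<|b)<|a (a (-1)<|a 0<|a 2<|a (-2)<|b)<|a (a (-1)<|a 1<|a 0<|a (-1)<|b)<|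
 a (a 0<|a (-1)<|a 1<|a 1<|b)<|a (a 1<|a (-1)<|a 2<|a (-2)<|b)<|a (a (-1)<|a 0<|a 0<|a 2<|b)<|a (a 1<|a 0<|a 0<|a (-1)<|b)<|a (a (-1)<|a 1<|a (-1)<|a 1<|b)<|a (a 0<|a 1<|a 0<|a (-2)<|b)<|a (a 1<|a (-1)<|a 0<|a 2<|b)<|a (a 1<|
 a 0<|a (-1)<|a 1<|b)<|a (a (-1)<|a 0<|a 1<|a 0<|b)<|a (a 0<|a 1<|a (-2)<|a 2<|b)<|a (a 1<|a (-1)<|a 1<|a 0<|b)<|a (a 0<|a (-1)<|a 2<|a 0<|b)<|a (a 0<|a 1<|a (-1)<|a 0<|b)<|a (a (-1)<|a 1<|a 0<|a 0<|b)<|a (a 0<|a 0<|a 1<|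
 a (-1)<|b)<|a (a 1<|a 0<|a 0<|a 0<|b)<|a (a 0<|a 0<|a 0<|a 1<|b)<|b))

theorem okTF4 : tyTF4.ok = true := by (first | (rewrite [Cfsg.Agent.KO7ce1ea2.e22]; decide +kernel) | decide +kernel)

def torTF4a : Tor where
  wd := [3, 2, 0, 3, 1, 0, 2, 3, 1, 2]
  Gt := [2, 2, 4, 4]
  gt := [2, 2, 4, 4]
  e := [1, 0, 0, 0]
  xs :=
    (beta% delta% lq26b1ef3c63 fun a b _ =>
 (a (a 1<|a 0<|a 0<|a 0<|b)<|a (a 2<|a 2<|a 1<|a 1<|b)<|a (a 4<|a 6<|a 4<|a 2<|b)<|a (a 4<|a 4<|a 4<|a 2<|b)<|b))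
  Us :=
    (beta% delta% lq26b1ef3c63 fun a b _ =>
 (a (a (-1)<|a 0<|a (-2)<|a (-4)<|b)<|a (a 1<|a 0<|a 0<|a 0<|b)<|a (a (-2)<|a (-1)<|a (-2)<|a (-4)<|b)<|a (a 1<|a 1<|a 0<|a 2<|b)<|a (a (-1)<|a (-1)<|a (-1)<|a (-4)<|b)<|a (a (-1)<|a (-2)<|a 0<|a (-4)<|b)<|a (a 0<|a (-1)<|a 0<|
 a 0<|b)<|a (a 0<|a 0<|a 0<|a 1<|b)<|a (a (-1)<|a (-1)<|a (-1)<|a (-2)<|b)<|a (a 1<|a 0<|a 0<|a 4<|b)<|a (a (-1)<|a (-1)<|a (-2)<|a (-4)<|b)<|a (a 1<|a 0<|a 0<|a 2<|b)<|a (a (-1)<|a (-2)<|a (-2)<|a (-4)<|b)<|a (a 0<|a 0<|a (-1)<|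
 a 0<|b)<|a (a (-1)<|a 0<|a (-2)<|a (-2)<|b)<|a (a 2<|a 1<|a 2<|a 6<|b)<|a (a 3<|a 2<|a 2<|a 8<|b)<|a (a (-1)<|a (-1)<|a (-2)<|a (-2)<|b)<|a (a (-1)<|a 0<|a (-2)<|a 0<|b)<|a (a 0<|a (-1)<|a 0<|a (-2)<|b)<|a (a 1<|a 0<|a 1<|
 a 2<|b)<|a (a (-1)<|a (-1)<|a (-1)<|a (-3)<|b)<|a (a (-3)<|a (-2)<|a (-4)<|a (-8)<|b)<|a (a 1<|a 1<|a 0<|a 4<|b)<|b))
  B := [2, 3, 5]
  c := 1
  q₀ := 1

theorem okTF4a : torTF4a.ok tyTF4 = true := by (first | (rewrite [Cfsg.Agent.KO7ce1ea2.e44]; decide +kernel) | decide +kernel)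

def torTF4b : Tor where
  wd := [0, 1]
  Gt := [-2, 2, -4, 4]
  gt := [-2, 2, -4, 4]
  e := [1, 0, 0, 0]
  xs :=
    (beta% delta% lq26b1ef3c63 fun a b _ =>
 (a (a 1<|a 0<|a 0<|a 0<|b)<|a (a (-2)<|a 0<|a 1<|a 0<|b)<|a (a 2<|a 2<|a 0<|a 2<|b)<|a (a 0<|a 0<|a 0<|a (-2)<|b)<|b))
  Us :=
    (beta% delta% lq26b1ef3c63 fun a b _ =>
 (a (a (-5)<|a 2<|a (-6)<|a 12<|b)<|a (a 1<|a 0<|a 1<|a (-2)<|b)<|a (a (-2)<|a 1<|a (-2)<|a 5<|b)<|a (a (-3)<|a 1<|a (-4)<|a 6<|b)<|a (a 3<|a 0<|a 4<|a (-4)<|b)<|a (a 0<|a 1<|a 1<|a 2<|b)<|a (a 1<|a 0<|a 2<|a (-2)<|b)<|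
 a (a (-2)<|a 1<|a (-2)<|a 4<|b)<|a (a (-5)<|a 4<|a (-4)<|a 16<|b)<|a (a (-3)<|a 2<|a (-3)<|a 8<|b)<|a (a (-1)<|a 2<|a 0<|a 6<|b)<|a (a 1<|a 1<|a 2<|a 0<|b)<|a (a 1<|a 0<|a 2<|a 0<|b)<|a (a (-3)<|a 2<|a (-4)<|a 8<|b)<|
 a (a (-4)<|a 3<|a (-4)<|a 12<|b)<|a (a (-3)<|a 3<|a (-2)<|a 10<|b)<|a (a (-3)<|a 4<|a (-2)<|a 12<|b)<|a (a (-2)<|a 1<|a (-2)<|a 6<|b)<|a (a (-3)<|a 2<|a (-2)<|a 8<|b)<|a (a 0<|a 1<|a 0<|a 2<|b)<|a (a (-1)<|a 2<|a 0<|a 4<|b)<|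
 a (a (-1)<|a 1<|a 0<|a 4<|b)<|a (a (-1)<|a 1<|a (-1)<|a 4<|b)<|a (a (-1)<|a 1<|a (-1)<|a 3<|b)<|b))
  B := [2, 3, 5]
  c := 1
  q₀ := 2

theorem okTF4b : torTF4b.ok tyTF4 = true := by decide +kernel

theorem copTF4 : copOK torTF4a.Gt torTF4b.Gt [1, -1]
    [1, 1] = true := by decide +kernel

end Cfsg.Agent.DL.Rows.Cert
end

-- part: DL/Rows/Gen
section
prune_inst 0x200040052000000000180000600042a09300000000400000800400000081000220410801024000021030004008300040000000000020000000000000000000000000000000000000000000000000000000000000000000000000000000000000000000000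
set_option linter.all false
open scoped Cfsg.Agent.FastGrp

/-!
# Characters in general position of a maximal torus of an adjoint group (helper7)
-/

set_option autoImplicit false
set_option linter.unusedSectionVars false

namespace Cfsg.Agent.DL.Rows

open CoxeterSystem Cfsg.Agent.ChevalleyStructure.CoxeterGeom Cfsg.Agent.Tits.Roots Cfsg.Agent.Nodes.Reps
  Cfsg.Agent.Nodes.Coroot Polynomial

/-- an integral matrix of prime order `r` has size at least `r - 1` -/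
theorem prime_le_of_pow {I : Type} [Fintype I] [DecidableEq I] {r : ℕ} (hr : r.Prime)
    {f : Module.End ℤ (I → ℤ)} (h1 : f ^ r = 1) (h2 : f ≠ 1) : r ≤ Fintype.card I + 1 := by
  have := Fact.mk hr
  set M : Matrix I I ℚ := (LinearMap.toMatrix' f).map (Int.castRingHom ℚ) with hM
  have hM1 : M ^ r = 1 := by
    have h3 : LinearMap.toMatrix' f ^ r = 1 := by
      change (LinearMap.toMatrixAlgEquiv' f) ^ r = 1
      rw [← map_pow, h1, map_one]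
    rw [hM, ← RingHom.mapMatrix_apply, ← map_pow, h3, map_one]
  have hM2 : M ≠ 1 := fun h => h2 (by
    apply LinearMap.toMatrix'.injective
    rw [LinearMap.toMatrix'_one]
    apply Matrix.map_injective (f := Int.castRingHom ℚ) Int.cast_injective
    simp only [← hM, h, Matrix.map_one _ (map_zero _) (map_one _)])
  have hd : minpoly ℚ M ∣ cyclotomic r ℚ * (X - 1) := by
    rw [cyclotomic_prime_mul_X_sub_one]
    exact minpoly.dvd ℚ M (by simp [hM1])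
  have hirr : Irreducible (cyclotomic r ℚ) := cyclotomic.irreducible_rat hr.pos
  by_cases hc : cyclotomic r ℚ ∣ minpoly ℚ M
  · have h3 := natDegree_le_of_dvd (hc.trans (Matrix.minpoly_dvd_charpoly M)) (Matrix.charpoly_monic M).ne_zero
    rw [natDegree_cyclotomic, Nat.totient_prime hr, Matrix.charpoly_natDegree_eq_dim] at h3
    omega
  · exfalso
    obtain ⟨Q, hQ⟩ := ((hirr.coprime_iff_not_dvd.2 hc).symm.dvd_of_dvd_mul_left hd)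
    have h4 := congrArg (aeval M) hQ
    rw [map_mul, minpoly.aeval, zero_mul, map_sub, aeval_X, map_one, sub_eq_zero] at h4
    exact hM2 h4

section Cox

variable {I W : Type} [Fintype I] [DecidableEq I] [Group W] [Finite W] {M : CoxeterMatrix I}
  (cs : CoxeterSystem M W) {A : I → I → ℤ} (h : IsCartan M A)

include cs h in
theorem not_dvd_orderOf {r : ℕ} (hr : r.Prime) (hrk : Fintype.card I + 1 < r) (u : W) : ¬ r ∣ orderOf u := by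
  intro hd
  have h1 : orderOf (u ^ (orderOf u / r)) = r := orderOf_pow_orderOf_div (orderOf_pos u).ne' hd
  refine absurd (prime_le_of_pow hr (f := rep cs h (u ^ (orderOf u / r))) ?_ fun h2 => ?_) (by omega)
  · have h4 := pow_orderOf_eq_one (u ^ (orderOf u / r))
    rw [h1] at h4
    rw [← map_pow, h4, map_one]
  · have h3 : u ^ (orderOf u / r) = 1 := eq_one_of_fix cs h _ fun i => by rw [h2]; rfl
    rw [h3, orderOf_one] at h1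
    exact hr.one_lt.ne h1

end Cox

variable {p : ℕ} [Fact p.Prime] {k : Type} [Field k] [CharP k p] [IsAlgClosed k] {Y : Type} [Group Y] {N : Type}
  [Fintype N] [DecidableEq N] {ρ : Y →* GL N k} {F : MulAut Y} {G : Subgroup Y} (D : Datum p ρ F G)

/-- only the identity fixes a regular vector -/
theorem eq_one_of_regular {x : D.I → ℤ} (hx : ∀ a, D.Rt a → cpr D.cs D.h x a ≠ 0) {u : D.W}
    (hu : D.act u x = x) : u = 1 := by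
  have := Fintype.ofFinite D.W
  obtain ⟨w, hw⟩ := D.exists_chamber (AddMonoidHom.mk' (form D.cs D.h x) (form_add_right D.cs D.h x))
    fun a ha h0 => hx a ha ((cpr_zero_iff D.cs D.h x ha).2 h0)
  have h1 : w⁻¹ * u * w = 1 := by
    refine eq_one_of_nonneg D.cs D.h _ fun i => ?_
    have hi : D.Rt (sr i) := isRoot_sr _ _ _
    refine (hw _ (IsRoot.act hi _)).1 ?_
    have h2 := (hw _ hi).2 (Pi.single_nonneg.2 zero_le_one)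
    simp only [AddMonoidHom.mk'_apply, Datum.act] at h2 ⊢
    rw [← rep_mul_apply, show w * (w⁻¹ * u * w) = u * w by group, rep_mul_apply]
    conv => arg 2; arg 3; rw [← hu]
    rwa [form_rep]
  rw [show u = w * (w⁻¹ * u * w) * w⁻¹ by group, h1, mul_one, mul_inv_cancel]

/-- only the identity fixes a vector that is regular modulo a large prime -/
theorem eq_one_of_regular_mod {r : ℕ} (hr : r.Prime) (hrk : Fintype.card D.I + 1 < r) {x y : D.I → ℤ}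
    (hx : ∀ a, D.Rt a → ¬ (r : ℤ) ∣ cpr D.cs D.h x a) {u : D.W} (hu : D.act u x - x = (r : ℤ) • y) : u = 1 := by
  have h1 : ∀ i : ℕ, ∃ z, D.act (u ^ i) x = x + (r : ℤ) • z := fun i => by
    induction i with
    | zero => exact ⟨0, by simp [Datum.act]⟩
    | succ i ih =>
      obtain ⟨z, hz⟩ := ih
      refine ⟨y + D.act u z, ?_⟩
      rw [pow_succ', Datum.act, rep_mul_apply]
      simp only [Datum.act] at hz hu ⊢
      rw [hz, map_add, map_smul, smul_add, ← hu]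
      abel
  choose z hz using h1
  refine eq_one_of_regular D (x := ∑ i ∈ Finset.range (orderOf u), D.act (u ^ i) x) (fun a ha h0 => ?_) ?_
  · simp only [hz, Finset.sum_add_distrib, Finset.sum_const, Finset.card_range, ← Finset.smul_sum] at h0
    rw [cpr_add _ _ _ _ ha, cpr_smul _ _ _ _ ha, ← natCast_zsmul, cpr_smul _ _ _ _ ha] at h0
    have h2 : (r : ℤ) ∣ (orderOf u : ℤ) * cpr D.cs D.h x a :=
      ⟨_, by rw [eq_neg_of_add_eq_zero_left h0, ← mul_neg]⟩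
    rcases (Nat.prime_iff_prime_int.1 hr).dvd_or_dvd h2 with h3 | h3
    · exact not_dvd_orderOf D.cs D.h hr hrk u (Int.natCast_dvd_natCast.1 h3)
    · exact hx a ha h3
  · simp only [Datum.act, map_sum, ← rep_mul_apply, ← pow_succ']
    have h2 := Finset.sum_range_succ (fun i => rep D.cs D.h (u ^ i) x) (orderOf u)
    rw [Finset.sum_range_succ', pow_orderOf_eq_one, pow_zero] at h2
    exact add_right_cancel h2

theorem ψ_iterate {d e : ℕ} (H : D.Split d e) (b : D.I → ℤ) : D.ψ^[d] b = ((p : ℤ) ^ e) • b := by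
  have h1 : ∀ i : ℕ, D.wt (D.ψ^[i] b) = Matrix.vecMul (D.wt b) (D.Mx ^ i) := fun i => by
    induction i with
    | zero => simp
    | succ i ih => rw [Function.iterate_succ_apply', D.wt_ψ, ih, Matrix.vecMul_vecMul, pow_succ]
  apply D.wt_injective
  rw [h1, D.Mx_pow H, map_zsmul, Matrix.vecMul_smul, Matrix.vecMul_one]

/-- the norm on the root lattice -/
noncomputable def nrm (d : ℕ) (b : D.I → ℤ) : D.I → ℤ := ∑ i ∈ Finset.range d, D.ψ^[i] b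

theorem iterate_sub (i : ℕ) (a b : D.I → ℤ) : D.ψ^[i] (a - b) = D.ψ^[i] a - D.ψ^[i] b := by
  induction i with
  | zero => rfl
  | succ i ih => simp only [Function.iterate_succ_apply', ih, map_sub]

theorem nrm_sub (d : ℕ) (a b : D.I → ℤ) : nrm D d (a - b) = nrm D d a - nrm D d b := by
  simp only [nrm, iterate_sub, Finset.sum_sub_distrib]

theorem nrm_ψ {d e : ℕ} (H : D.Split d e) (b : D.I → ℤ) :
    nrm D d (D.ψ b - b) = ((p : ℤ) ^ e - 1) • b := by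
  simp only [nrm, iterate_sub, ← Function.iterate_succ_apply]
  rw [Finset.sum_range_sub (fun i => D.ψ^[i] b), ψ_iterate D H, sub_smul, one_smul]
  rfl

theorem ψ_nrm {d e : ℕ} (H : D.Split d e) (b : D.I → ℤ) :
    D.ψ (nrm D d b) - nrm D d b = ((p : ℤ) ^ e - 1) • b := by
  rw [← nrm_ψ D H, nrm_sub]
  simp only [nrm, map_sum, ← Function.iterate_succ_apply' D.ψ, Function.iterate_succ_apply]

theorem pow_sub_one_pos {d e : ℕ} (H : D.Split d e) : 0 < (p : ℤ) ^ e - 1 := by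
  have : 1 < p ^ e := Nat.one_lt_pow H.e_pos.ne' (Fact.out : p.Prime).one_lt
  have h2 : (1 : ℤ) < (p : ℤ) ^ e := by exact_mod_cast this
  omega

theorem eq_zero_of_ψ {b : D.I → ℤ} (hb : D.ψ b = b) : b = 0 := by
  obtain ⟨d, e, H⟩ := D.exists_split'
  have h1 := nrm_ψ D H b
  rw [hb, sub_self, ← sub_self (0 : D.I → ℤ), nrm_sub, sub_self] at h1
  exact (smul_eq_zero.1 h1.symm).resolve_left (pow_sub_one_pos D H).ne'

variable {D}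

theorem eq_of_χ_eq (hadj : Function.Surjective D.wt) {s t : Y} (hs : s ∈ D.T) (ht : t ∈ D.T)
    (h : ∀ b, D.χ b s = D.χ b t) : s = t := by
  rw [← D.τ_crd hs, ← D.τ_crd ht]
  congr 1
  funext j
  obtain ⟨b, hb⟩ := hadj (Pi.single j 1)
  have h1 := h b
  simp only [Datum.χ, hb, chr_single] at h1
  exact Units.ext h1

theorem exists_of_hom (hadj : Function.Surjective D.wt) (ω : kˣ) (f : (D.I → ℤ) →+ ℤ) :
    ∃ t ∈ D.T, ∀ b, D.χ b t = ((ω ^ f b : kˣ) : k) := by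
  let e : (D.I → ℤ) ≃+ (D.R → ℤ) := AddEquiv.ofBijective D.wt ⟨D.wt_injective, hadj⟩
  refine ⟨D.τ (coch (fun j => f (e.symm (Pi.single j 1))) ω), D.τ_mem _, fun b => ?_⟩
  rw [D.χ_τ, chr_coch]
  congr 2
  have h1 : b = ∑ j, D.wt b j • e.symm (Pi.single j 1) := by
    apply e.injective
    simp only [map_sum, map_zsmul, AddEquiv.apply_symm_apply]
    funext j
    simp [Finset.sum_apply, Pi.single_apply, e]
    rfl
  conv_rhs => rw [h1]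
  simp only [map_sum, map_zsmul, smul_eq_mul]

/-- a character that is trivial on `T^F` is of the form `ψ y - y` -/
theorem exists_of_trivial (hadj : Function.Surjective D.wt) {m : D.I → ℤ}
    (hm : ∀ t ∈ D.T, F t = t → D.χ m t = 1) : ∃ y, m = D.ψ y - y := by
  obtain ⟨d, e, H⟩ := D.exists_split'
  have hp : p.Prime := Fact.out
  have h1 : 1 < p ^ e := Nat.one_lt_pow H.e_pos.ne' hp.one_lt
  have hn : ((p ^ e - 1 : ℕ) : ℤ) = (p : ℤ) ^ e - 1 := by push_cast [h1.le]; rfl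
  have : NeZero (p ^ e - 1) := ⟨by omega⟩
  have : NeZero ((p ^ e - 1 : ℕ) : k) := ⟨by
    rw [Nat.cast_sub h1.le, Nat.cast_pow, CharP.cast_eq_zero, zero_pow H.e_pos.ne']
    simp⟩
  obtain ⟨ζ, hζ⟩ := HasEnoughRootsOfUnity.exists_primitiveRoot k (p ^ e - 1)
  have hω : IsPrimitiveRoot (hζ.isUnit (NeZero.ne _)).unit (p ^ e - 1) := hζ.isUnit_unit (NeZero.ne _)
  have h2 : ∀ j, ((p : ℤ) ^ e - 1) ∣ nrm D d m j := fun j => by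
    obtain ⟨t, ht, hχ⟩ := exists_of_hom hadj (hζ.isUnit (NeZero.ne _)).unit
      (AddMonoidHom.ofMapSub (fun b => nrm D d b j) fun a b => by rw [nrm_sub]; rfl)
    replace hχ : ∀ b, D.χ b t = (((hζ.isUnit (NeZero.ne _)).unit ^ nrm D d b j : kˣ) : k) := hχ
    have h3 : F t = t := by
      refine eq_of_χ_eq hadj (D.F_mem_T ht) ht fun b => ?_
      rw [D.χ_ψ b ht, ← sub_add_cancel (D.ψ b) b, D.χ_add, hχ (D.ψ b - b), nrm_ψ D H, Pi.smul_apply, smul_eq_mul,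
        zpow_mul, ← hn, zpow_natCast, hω.pow_eq_one, one_zpow, Units.val_one, one_mul]
    have h4 := hm t ht h3
    rw [hχ, Units.val_eq_one, hω.zpow_eq_one_iff_dvd, hn] at h4
    exact h4
  choose y hy using h2
  have h3 : nrm D d m = ((p : ℤ) ^ e - 1) • y := funext hy
  refine ⟨y, smul_right_injective _ (pow_sub_one_pos D H).ne' ?_⟩
  simp only
  rw [← ψ_nrm D H, h3, map_zsmul, smul_sub]

theorem exists_inj_hom (lf : ∀ a : k, ∃ m, 0 < m ∧ a ^ p ^ m = a) : ∃ ι : k →*₀ ℂ, Function.Injective ι := by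
  have hp : p.Prime := Fact.out
  have hpE : ‖(p : ℂ_[p])‖ < 1 := by
    rw [← map_natCast (algebraMap ℚ_[p] ℂ_[p]), norm_algebraMap']
    exact Padic.norm_p_lt_one
  obtain ⟨τ, hτ⟩ := Dw.exists_teich (E := ℂ_[p]) hp hpE lf
  obtain ⟨φ⟩ := Dw.nonempty_padicComplex_equiv p
  exact ⟨φ.toRingHom.toMonoidWithZeroHom.comp τ, φ.injective.comp hτ.injective⟩

/-- **General position.** -/
theorem exists_genPos (hadj : Function.Surjective D.wt) {r : ℕ} (hr : r.Prime) (hrk : Fintype.card D.I + 1 < r)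
    {x η : D.I → ℤ} (hx : x - D.ψ x = (r : ℤ) • η) (hreg : ∀ a, D.Rt a → ¬ (r : ℤ) ∣ cpr D.cs D.h x a) :
    ∃ θ : Y → ℂ, Uni.IsLin (D.T ⊓ GF F G) θ ∧ Uni.GenPos (GF F G) D.T θ := by
  obtain ⟨ι, hι⟩ := exists_inj_hom D.amb.lf
  refine ⟨fun t => ι (D.χ η t), ⟨by simp only [D.χ_one, map_one], fun a ha b hb => by
    simp only [D.χ_mul η ha.1 hb.1, map_mul]⟩, fun g hg hc => ?_⟩
  have hN : g ∈ D.NN := D.mem_NN_of_conj hg.1 fun t ht => by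
    rw [← hc.1]
    exact conj_mem_cj.2 ht
  have hF : D.Fw (D.pr g)⁻¹ = (D.pr g)⁻¹ := by rw [map_inv, ← D.pr_F hN, (mem_GF.1 hg).2]
  obtain ⟨y, hy⟩ := exists_of_trivial hadj (m := D.act (D.pr g)⁻¹ η - η) fun t ht hFt => by
    have h1 := hι (hc.2 t ⟨ht, D.T_le_G ht, hFt⟩)
    have h2 := D.χ_rp (D.rp_pr hN) (D.act (D.pr g)⁻¹ η) ht
    rw [Datum.act, Datum.act, rep_apply_inv] at h2
    rw [sub_eq_add_neg, D.χ_add, D.χ_neg, ← h2, h1, mul_inv_cancel₀ (D.χ_ne_zero _ _)]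
  have h3 := D.ψ_act (D.pr g)⁻¹ x
  rw [hF] at h3
  have h4 : D.act (D.pr g)⁻¹ x - x = (r : ℤ) • (-y) := by
    rw [← sub_eq_zero]
    apply eq_zero_of_ψ D
    have h5 : D.act (D.pr g)⁻¹ (D.ψ x) = D.act (D.pr g)⁻¹ x - (r : ℤ) • D.act (D.pr g)⁻¹ η := by
      simp only [Datum.act]
      rw [← map_smul, ← hx, map_sub, sub_sub_cancel]
    have h6 : D.ψ x = x - (r : ℤ) • η := by rw [← hx, sub_sub_cancel]
    rw [map_sub, map_sub, map_zsmul, map_neg, h3, h5, h6, eq_add_of_sub_eq hy]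
    simp only [smul_add, smul_sub, smul_neg]
    abel
  have h7 := eq_one_of_regular_mod D hr hrk hreg h4
  exact (D.pr_eq_one_iff hN).1 (inv_eq_one.1 h7)

/-- the exponent of the finite torus -/
theorem pow_eq_one (hadj : Function.Surjective D.wt) {n : ℤ} (hn : ∀ i, ∃ y, y - D.ψ y = n • sr i) {t : Y}
    (ht : t ∈ D.T) (hF : F t = t) : t ^ n = 1 := by
  have h1 : ∀ i, D.χ (sr i) t ^ n = 1 := fun i => by
    obtain ⟨y, hy⟩ := hn i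
    rw [← D.χ_zsmul, ← hy, sub_eq_add_neg, D.χ_add, D.χ_neg, ← D.χ_ψ y ht, hF, mul_inv_cancel₀ (D.χ_ne_zero _ _)]
  have h2 : ∀ b, D.χ b t ^ n = 1 := fun b => by
    rw [D.eq_sum_sr b]
    refine Finset.sum_induction _ (fun a => D.χ a t ^ n = 1) (fun a a' ha ha' => ?_) ?_ fun i _ => ?_
    · rw [D.χ_add, mul_zpow, ha, ha', one_mul]
    · rw [D.χ_zero, one_zpow]
    · rw [D.χ_zsmul, ← zpow_mul, mul_comm, zpow_mul, h1, one_zpow]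
  refine eq_of_χ_eq hadj (D.T.zpow_mem ht n) D.T.one_mem fun b => ?_
  rw [D.χ_one, ← h2 b, ← D.τ_crd ht, ← map_zpow, D.χ_τ, D.χ_τ, map_zpow, Units.val_zpow_eq_zpow_val]

end Cfsg.Agent.DL.Rows

private theorem dce_14539ed9d83b : _root_.True := by
  try have : _root_.True := by simp only [_root_.Cfsg.Agent.DL.Rows.nrm.eq_1]
  exact _root_.True.intro
end

-- part: DL/Rows/Main
section
prune_inst 0x102001100000000000000000000000000000000000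
set_option linter.all false
open scoped Cfsg.Agent.FastGrp

/-!
# Characters of defect zero from tori with characters in general position (helper7)
-/

set_option autoImplicit false
set_option linter.unusedSectionVars false

namespace Cfsg.Agent.DL.Rows

open Cfsg CoxeterSystem Cfsg.Agent.ChevalleyStructure.CoxeterGeom Cfsg.Agent.Tits.Roots Cfsg.Agent.Nodes.Coroot
  Cfsg.Agent.Nodes.Reps Cfsg.Agent.H665.NoPQ

/-- descent to a normal subgroup of index prime to `r` -/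
theorem hasDZ_down {G S : Type*} [Group G] [Finite G] [Group S] {r : ℕ} (h : HasDZ r G) {f : S →* G}
    (hf : Function.Injective f) (hN : f.range.Normal) (hr : ¬ r ∣ f.range.index) : HasDZ r S := by
  refine R2.DZ.congr (MonoidHom.ofInjective hf).symm ?_
  obtain ⟨χ, hχ⟩ := h
  obtain ⟨c, ⟨θ, rfl⟩, ⟨m, hm⟩, h2⟩ := H424.DegTools.clifford_down f.range (d := charDegree (χ : G → ℂ)) ⟨χ, rfl⟩
  refine ⟨θ, ?_⟩
  have hθ := Blocks.Basic.charDegree_pos θ.2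
  have hm0 : m ≠ 0 := by
    rintro rfl
    exact (Blocks.Basic.charDegree_pos χ.2).ne' hm
  rw [hm, Nat.mul_div_cancel_left m hθ] at h2
  rwa [hm, ← f.range.card_mul_index, Nat.factorization_mul hθ.ne' hm0,
    Nat.factorization_mul Nat.card_pos.ne' Subgroup.index_ne_zero_of_finite, Finsupp.add_apply, Finsupp.add_apply,
    Nat.factorization_eq_zero_of_not_dvd hr, Nat.factorization_eq_zero_of_not_dvd fun h3 => hr (h3.trans h2),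
    add_zero, add_zero] at hχ

variable {p : ℕ} [Fact p.Prime] {k : Type} [Field k] [CharP k p] [IsAlgClosed k] {Y : Type} [Group Y] {N : Type}
  [Fintype N] [DecidableEq N] {ρ : Y →* GL N k} {F : MulAut Y} {G : Subgroup Y} (D : Datum p ρ F G)

theorem T_mem_tori : D.T ∈ Asm.tori D := ⟨1, one_mem _, (cj_one _).symm, D.map_T⟩

/-- a character in general position gives an irreducible character vanishing off the conjugates of the torus -/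
theorem exists_irr_of_genPos {θ : Y → ℂ} (h1 : Uni.IsLin (D.T ⊓ GF F G) θ) (h2 : Uni.GenPos (GF F G) D.T θ) :
    ∃ χ : IrrCharacter ↥(GF F G), ∀ g : ↥(GF F G), (∀ h ∈ GF F G, h * Uni.jsp p (g : Y) * h⁻¹ ∉ D.T) →
      (χ : ↥(GF F G) → ℂ) g = 0 := by
  have S := Asm.sys' D
  have := S.finH
  have h3 := S.gen _ (T_mem_tori D) θ h1
  have h4 := S.ip_R_genPos (T_mem_tori D) h1 h2
  have h5 : ∀ g : ↥(GF F G), (∀ h ∈ GF F G, h * Uni.jsp p (g : Y) * h⁻¹ ∉ D.T) → Asm.R D D.T θ g = 0 :=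
    fun g hg => S.R_eq_zero (T_mem_tori D) θ g.2 fun h hh hm => absurd hm (hg h hh)
  rcases le_total 0 (Asm.R D D.T θ 1).re with h6 | h6
  · exact ⟨⟨_, Uni.irr_of_norm_one h3 h4 h6⟩, h5⟩
  · refine ⟨⟨_, Uni.irr_of_norm_one (χ := (-1 : ℂ) • Asm.R D D.T θ) ?_ ?_ ?_⟩, fun g hg => ?_⟩
    · rw [neg_one_smul]
      exact Uni.gen_neg h3
    · rw [Uni.ip_smul_left, Uni.ip_smul_right, h4]
      simp
    · simpa using h6
    · change (-1 : ℂ) * Asm.R D D.T θ g = 0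
      rw [h5 g hg, mul_zero]

/-- the certificate of a torus -/
def Good (l : ℕ) (n : ℤ) (ψ : (D.I → ℤ) →+ (D.I → ℤ)) : Prop :=
  (∀ i, ∃ y, y - ψ y = n • sr i) ∧ ∃ (r : ℕ) (x η : D.I → ℤ), r.Prime ∧ l + 1 < r ∧ x - ψ x = (r : ℤ) • η ∧
    ∀ a, D.Rt a → ¬ (r : ℤ) ∣ cpr D.cs D.h x a

theorem hasDZ_of_good (hadj : Function.Surjective D.wt) {n : ℤ} (hg : Good D (Fintype.card D.I) n D.ψ) {r : ℕ}
    (hr : r.Prime) (hrp : r ≠ p) (hrn : ¬ (r : ℤ) ∣ n) : HasDZ r ↥(GF F G) := by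
  obtain ⟨h1, r', x, η, h2, h3, h4, h5⟩ := hg
  obtain ⟨θ, h6, h7⟩ := exists_genPos hadj h2 h3 h4 h5
  obtain ⟨χ, hχ⟩ := exists_irr_of_genPos D h6 h7
  have := Asm.finite_GF D
  have := Fact.mk hr
  refine R2.DZ.of_knorr χ fun g hg => hχ g fun h hh hm => hrn ?_
  have h8 : orderOf (g : Y) = r := by rw [Subgroup.orderOf_coe, hg]
  have h9 : Uni.IsSs p (g : Y) := fun hd =>
    hrp ((Nat.prime_dvd_prime_iff_eq Fact.out hr).1 (h8 ▸ hd)).symm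
  rw [Uni.jsp_of_ss h9] at hm
  rw [← h8, ← Uni.orderOf_conj' h, orderOf_dvd_iff_zpow_eq_one]
  exact pow_eq_one hadj h1 hm (mul_mem (mul_mem hh g.2) (inv_mem hh)).2

theorem conj_ψ {y : Y} (hy : y ∈ G) (hF : y⁻¹ * F y ∈ D.NN) (b : D.I → ℤ) :
    (D.conj hy hF).ψ b = D.ψ (D.act (D.pr (y⁻¹ * F y))⁻¹ b) := by
  apply D.wt_injective
  have h1 := (D.conj hy hF).wt_ψ b
  rw [D.conj_Mx] at h1
  rw [D.wt_ψ, D.wt_act', Matrix.vecMul_vecMul]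
  exact h1

theorem hasDZ_of_type (hadj : Function.Surjective D.wt) (u : D.W) {n : ℤ}
    (hg : ∀ ψ : (D.I → ℤ) →+ (D.I → ℤ), (∀ b, ψ b = D.ψ (D.act u b)) → Good D (Fintype.card D.I) n ψ) {r : ℕ}
    (hr : r.Prime) (hrp : r ≠ p) (hrn : ¬ (r : ℤ) ∣ n) : HasDZ r ↥(GF F G) := by
  obtain ⟨y, hy, hw⟩ := D.exists_type u⁻¹
  have hF : y⁻¹ * F y ∈ D.NN := ⟨_, hw⟩
  refine hasDZ_of_good (D.conj hy hF) hadj (hg _ fun b => ?_) hr hrp hrn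
  rw [conj_ψ, hw.pr_eq, inv_inv]

variable {D} in
theorem ψ_apply {π : D.I → D.I} (hq : D.QSp π) (b : D.I → ℤ) (i : D.I) :
    D.ψ b i = (p : ℤ) ^ D.ex (sr i) * b (π i) := by
  have h1 : ∀ j, D.ψ (sr (D.σ j)) = ((p : ℤ) ^ D.ex (sr j)) • sr j := fun j => by
    rw [hq.σ_eq, ← hq j]
    exact D.ψ_g (isRoot_sr _ _ j)
  conv_lhs => rw [D.eq_sum_sr b, ← Equiv.sum_comp D.σ, map_sum, Finset.sum_apply]
  rw [Finset.sum_eq_single i]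
  · rw [map_zsmul, h1, hq.σ_eq, Pi.smul_apply, Pi.smul_apply, sr_self, smul_eq_mul, smul_eq_mul, mul_one, mul_comm]
  · intro j _ hj
    rw [map_zsmul, h1, Pi.smul_apply, Pi.smul_apply, sr_ne hj.symm, smul_zero, smul_zero]
  · intro h
    exact absurd (Finset.mem_univ i) h

section Chev

open Cfsg.Lie Cfsg.Agent.ChevalleyStructure Cfsg.Agent.ChevalleyStructure.CoxeterGeomTypes
  Cfsg.Agent.Nodes.RGDChev Cfsg.Agent.KFacts.RgdChevCoord Cfsg.Agent.BpExc.TowChev Cfsg.Agent.DL.Ex Cert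

variable {T : Ty} {C : ChevalleyDatum} {M : CoxeterMatrix (Fin T.l)} (hp : IsType C T.l M) (hk : LocFin k)
  {F : MulAut ↥(C.group k)} (amb : Amb p (C.group k).subtype F) (g : (Fin T.l → ℤ) → Fin T.l → ℤ)
  (ex : (Fin T.l → ℤ) → ℕ)
  (g_root : ∀ a, IsRoot M.toCoxeterSystem hp.isCartan a → IsRoot M.toCoxeterSystem hp.isCartan (g a))
  (F_x : ∀ a, IsRoot M.toCoxeterSystem hp.isCartan a →
    ∃ c : k, c ≠ 0 ∧ ∀ u, F (xc hp a u) = xc hp (g a) (c * u ^ p ^ ex a))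
  (Mx : Matrix (Fin T.l) (Fin T.l) ℤ) (F_τ : ∀ c, F (tau hp c) = tau hp (mon Mx c))
  {π : Fin T.l → Fin T.l} (hq : ∀ i, g (sr i) = sr (π i)) (hπ : ∀ i, (π i : ℕ) = T.pi.getD i 0)
  {z : ℤ} (hz : ∀ i, (p : ℤ) ^ ex (sr i) = z * get T.c i)
  (hA : ∀ i j, cartanOf C T.l i j = get (T.row i) j) (hT : T.ok = true)

include hk amb g_root F_x F_τ hq hπ hz hA hT

theorem hasDZ_tor {S : Tor} (hS : S.ok T = true) (hB : ∀ b ∈ S.B, b.Prime) (hz0 : S.q₀ ≤ z) {r : ℕ}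
    (hr : r.Prime) (hrp : r ≠ p) (hrn : ¬ (r : ℤ) ∣ peval (1 :: S.Gt) z) : HasDZ r ↥(GF F ⊤) := by
  let E : Datum p (C.group k).subtype F ⊤ := (chev hp hk one_pos).withF amb g ex g_root F_x Mx F_τ
  have hq' : E.QSp π := hq
  refine hasDZ_of_type E (fun b => ⟨b, rfl⟩) (wordEl M.toCoxeterSystem S.wd) (fun ψ hψ => ?_) hr hrp hrn
  have h1 : Fintype.card E.I = T.l := Fintype.card_fin _
  rw [h1]
  have : Finite M.Group := E.fW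
  refine sound M.toCoxeterSystem hp.isCartan hA hT hS hB hz0 (ψ₀ := E.ψ) hψ fun b i j hj => ?_
  have h2 : j = π i := Fin.ext (hj.trans (hπ i).symm)
  rw [h2, ← mul_assoc, ← hz]
  exact ψ_apply hq' b i

theorem hasDZ_two {S₁ S₂ : Tor} (h₁ : S₁.ok T = true) (h₂ : S₂.ok T = true) {U V : List ℤ}
    (hc : copOK S₁.Gt S₂.Gt U V = true) (hB : ∀ b ∈ S₁.B ++ S₂.B, b.Prime) (hz₁ : S₁.q₀ ≤ z) (hz₂ : S₂.q₀ ≤ z) {r : ℕ}
    (hr : r.Prime) (h5 : 5 ≤ r) (hrp : r ≠ p) : HasDZ r ↥(GF F ⊤) := by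
  rcases cop_sound hc hr h5 z with h | h
  · exact hasDZ_tor hp hk amb g ex g_root F_x Mx F_τ hq hπ hz hA hT h₁
      (fun b hb => hB b (List.mem_append_left _ hb)) hz₁ hr hrp h
  · exact hasDZ_tor hp hk amb g ex g_root F_x Mx F_τ hq hπ hz hA hT h₂
      (fun b hb => hB b (List.mem_append_right _ hb)) hz₂ hr hrp h

end Chev

end Cfsg.Agent.DL.Rows
end
end
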